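import Groth.Agent.RefX2.Hart

/-!
# Codimension one points, reflexive hulls
-/

universe u

set_option backward.isDefEq.respectTransparency false
set_option backward.isDefEq.respectTransparency.types false
set_option linter.style.haveILetI false

open CategoryTheory AlgebraicGeometry TopologicalSpace Opposite

namespace Groth.Agent.RefX2

variable {X : Scheme.{u}}

theorem dim_eq_one_iff (x : X) : ringKrullDim (X.presheaf.stalk x) = 1 ↔ Order.coheight x = 1 := by
  rw [ringKrullDim_stalk_eq_coheight]
  exact WithBot.coe_inj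

/-- Over a principal ideal domain the evaluation map of a finite module is surjective. -/
theorem eval_surjective_of_pid {A M : Type u} [CommRing A] [IsDomain A] [IsPrincipalIdealRing A]
    [AddCommGroup M] [Module A M] [Module.Finite A M] : Function.Surjective (Module.Dual.eval A M) := by
  let T := Submodule.torsion A M
  haveI : Module.Free A (M ⧸ T) := Module.free_of_finite_type_torsion_free'
  intro y
  have hd : ∀ φ : Module.Dual A M, ∃ ψ : Module.Dual A (M ⧸ T), T.mkQ.dualMap ψ = φ := fun φ =>
    ⟨T.liftQ φ fun m hm => by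
      obtain ⟨a, ha⟩ := (Submodule.mem_torsion_iff m).1 hm
      have h0 : (a : A) * φ m = 0 := by
        rw [← smul_eq_mul, ← map_smul]
        show φ (a • m) = 0
        rw [ha, map_zero]
      exact (mul_eq_zero.1 h0).resolve_left (nonZeroDivisors.coe_ne_zero a), LinearMap.ext fun m => rfl⟩
  obtain ⟨q, hq⟩ := (Module.bijective_dual_eval A (M ⧸ T)).2 (y ∘ₗ T.mkQ.dualMap)
  obtain ⟨m, rfl⟩ := T.mkQ_surjective q
  refine ⟨m, LinearMap.ext fun φ => ?_⟩
  obtain ⟨ψ, rfl⟩ := hd φ
  exact LinearMap.congr_fun hq ψ

variable [IsLocallyNoetherian X]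

/-- Surjectivity of the biduality map on stalks, from surjectivity of evaluation. -/
theorem stalkMap_bidual_surjective {F : X.Modules} (hF : Coh.IsCoh F) (x : X)
    (h : Function.Surjective (Module.Dual.eval (X.presheaf.stalk x) (F.presheaf.stalk x))) :
    Function.Surjective (RefHull.stalkMapₗ (RefHull.bidualMap F) x) := by
  have hfp := QCoh.isCoh_iff_isFP.1 hF
  let e : Module.Dual (X.presheaf.stalk x) (Module.Dual (X.presheaf.stalk x) (F.presheaf.stalk x)) ≃ₗ[X.presheaf.stalk x]
      RefHull.StalkHom (RefHull.dual F) (Coh.structureModule X) x :=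
    (RefX.dualStalk hfp x).symm.arrowCongr (RefX.unitStalk x)
  have key : RefHull.bidualAt F x =
      e.toLinearMap.comp (Module.Dual.eval (X.presheaf.stalk x) (F.presheaf.stalk x)) := by
    refine LinearMap.ext fun v => LinearMap.ext fun θ => ?_
    show RefHull.evalStalk F _ x θ v = RefX.unitStalk x ((RefX.unitStalk x).symm (RefHull.evalStalk F _ x θ v))
    rw [LinearEquiv.apply_symm_apply]
  have key' : RefHull.bidualAt F x = (RefHull.evalStalk (RefHull.dual F) (Coh.structureModule X) x).comp
      (RefHull.stalkMapₗ (RefHull.bidualMap F) x) := by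
    refine LinearMap.ext fun v => ?_
    obtain ⟨U, hx, m, rfl⟩ := TopCat.Presheaf.exists_germ_eq F.presheaf v
    rw [LinearMap.comp_apply, RefHull.stalkMapₗ_germ, RefHull.evalStalk_germ, RefHull.bidualMap_app_apply]
  intro w
  obtain ⟨v, hv⟩ := (e.surjective.comp h) (RefHull.evalStalk (RefHull.dual F) (Coh.structureModule X) x w)
  refine ⟨v, RefX.evalStalk_injective (QCoh.isFT_of_isFP (QCoh.isCoh_iff_isFP.1 (RefX.isCoh_dual hF))) x ?_⟩
  rw [← hv]
  exact (LinearMap.congr_fun key' v).symm.trans (LinearMap.congr_fun key v)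

variable [IsIntegral X]

theorem bidual_bijective_generic {F : X.Modules} (hF : Coh.IsCoh F) :
    Function.Bijective (RefHull.stalkMapₗ (RefHull.bidualMap F) (genericPoint X)) := by
  haveI : Module.Finite X.functionField (F.presheaf.stalk (genericPoint X)) := finite_stalk hF _
  rw [RefX.stalkMap_bidual_bijective_iff hF]
  exact (inferInstance : Module.IsReflexive X.functionField (F.presheaf.stalk (genericPoint X)))

theorem bidual_surjective_codim_one (hX : Pi1.IsNormalScheme X) {F : X.Modules} (hF : Coh.IsCoh F) {x : X}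
    (hx : Order.coheight x = 1) : Function.Surjective (RefHull.stalkMapₗ (RefHull.bidualMap F) x) := by
  haveI := CDiv6.isDVR_of_coheight_one hX hx
  haveI := finite_stalk hF x
  exact stalkMap_bidual_surjective hF x eval_surjective_of_pid

theorem hart_ddual (hX : Pi1.IsNormalScheme X) {F : X.Modules} (hF : Coh.IsCoh F) : Hart (RefHull.ddual F) :=
  hart_of_isReflexive hX (isCoh_ddual hF) (isReflexive_ddual hF)

theorem lat_ddual (hX : Pi1.IsNormalScheme X) {F : X.Modules} (hF : Coh.IsCoh F) {x : X}
    (hx : Order.coheight x = 1) (v : F.presheaf.stalk (genericPoint X)) :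
    RefHull.stalkMapₗ (RefHull.bidualMap F) (genericPoint X) v ∈ Lat (RefHull.ddual F) x ↔ v ∈ Lat F x := by
  refine ⟨?_, fun h => mapsTo_lat _ x h⟩
  rintro ⟨m, hm⟩
  obtain ⟨n, rfl⟩ := bidual_surjective_codim_one hX hF hx m
  exact ⟨n, (bidual_bijective_generic hF).1 ((stalkMap_toGen _ x n).trans hm)⟩

theorem isReflexive_of_hart (hX : Pi1.IsNormalScheme X) {F : X.Modules} (hF : Coh.IsCoh F) (h : Hart F) :
    RefHull.IsReflexive F :=
  (hart_ddual hX hF).isIso h _ (bidual_bijective_generic hF) fun _ hy => bidual_surjective_codim_one hX hF hy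

theorem isReflexive_iff_hart (hX : Pi1.IsNormalScheme X) {F : X.Modules} (hF : Coh.IsCoh F) :
    RefHull.IsReflexive F ↔ Hart F :=
  ⟨hart_of_isReflexive hX hF, isReflexive_of_hart hX hF⟩

end Groth.Agent.RefX2
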