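import Groth.Agent.RefX2.Codim
import Groth.Agent.InvUfdLib.Extend
import Groth.Agent.InvX.Tensor

/-!
# Modules of generic rank one
-/

universe u

set_option backward.isDefEq.respectTransparency false
set_option backward.isDefEq.respectTransparency.types false
set_option linter.style.haveILetI false

open CategoryTheory AlgebraicGeometry TopologicalSpace Opposite

namespace Groth.Agent.RefX2

variable {X : Scheme.{u}} [IsIntegral X]

/-- The generic stalk is a line. -/
def Rk1 (M : X.Modules) : Prop :=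
  ∃ g : M.presheaf.stalk (genericPoint X), g ≠ 0 ∧
    ∀ v : M.presheaf.stalk (genericPoint X), ∃ c : X.functionField, c • g = v

theorem Rk1.exists_smul {M : X.Modules} (h : Rk1 M) {v : M.presheaf.stalk (genericPoint X)} (hv : v ≠ 0)
    (w : M.presheaf.stalk (genericPoint X)) : ∃ c : X.functionField, c • v = w := by
  obtain ⟨g, hg, hs⟩ := h
  obtain ⟨a, rfl⟩ := hs v
  obtain ⟨b, rfl⟩ := hs w
  have ha : a ≠ 0 := fun h0 => hv (by rw [h0, zero_smul])
  exact ⟨b / a, by rw [smul_smul, div_mul_cancel₀ b ha]⟩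

theorem Rk1.of_bijective {M N : X.Modules} (h : Rk1 M)
    (T : M.presheaf.stalk (genericPoint X) →ₗ[X.presheaf.stalk (genericPoint X)] N.presheaf.stalk (genericPoint X))
    (hT : Function.Bijective T) : Rk1 N := by
  obtain ⟨g, hg, hs⟩ := h
  refine ⟨T g, fun h0 => hg (hT.1 (h0.trans (map_zero T).symm)), fun w => ?_⟩
  obtain ⟨v, rfl⟩ := hT.2 w
  obtain ⟨c, rfl⟩ := hs v
  exact ⟨c, (map_smul T c g).symm⟩

/-- A frame around the generic point gives rank one. -/
theorem rk1_of_isFrame {M : X.Modules} {U : X.Opens} {e : Γ(M, U)} (he : InvX.IsFrame e)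
    (hη : genericPoint X ∈ U) : Rk1 M :=
  ⟨M.presheaf.germ U _ hη e, fun h0 => one_ne_zero (α := X.functionField)
    ((he.germ_bijective hη).1 (show (1 : X.functionField) • _ = (0 : X.functionField) • _ by
      rw [one_smul, zero_smul]; exact h0)),
    fun v => (he.germ_bijective hη).2 v⟩

theorem dense_of_mem {U : X.Opens} {x : X} (hx : x ∈ U) : Dense (U : Set X) :=
  U.isOpen.dense ⟨x, hx⟩

theorem rk1_of_genInvertible {M : X.Modules} (h : RefHull.GenInvertible M) : Rk1 M := by
  obtain ⟨U, hU, hinv⟩ := h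
  obtain ⟨x, hx⟩ := hU.nonempty
  obtain ⟨W, hW, e, he⟩ := InvX.exists_frame hinv ⟨genericPoint X, gen_mem hx⟩
  exact rk1_of_isFrame (InvUfdLib.isFrame_of_restrict U.ι he) ⟨_, hW, rfl⟩

theorem genInvertible_of_isFrame {M : X.Modules} {U : X.Opens} {e : Γ(M, U)} (he : InvX.IsFrame e) {x : X}
    (hx : x ∈ U) : RefHull.GenInvertible M :=
  ⟨U, dense_of_mem hx, fun y => by
    refine InvX.isInvertible_of_frames (fun z => ?_) y
    refine ⟨⊤, trivial, (show Γ(M.restrict U.ι, ⊤) from AModX.res M (le_of_eq U.ι_image_top) e), ?_⟩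
    exact InvUfdLib.isFrame_restrict U.ι (he.res _)⟩

/-- A torsion free coherent module of rank one has a frame around any point where its stalk is cyclic. -/
theorem exists_frame_of_span [IsLocallyNoetherian X] {M : X.Modules} (hc : Coh.IsCoh M) (hM : TF M) (hr : Rk1 M)
    {x : X} {t : M.presheaf.stalk x} (ht : Submodule.span (X.presheaf.stalk x) {t} = ⊤) :
    ∃ (U : X.Opens) (hx : x ∈ U) (e : Γ(M, U)), InvX.IsFrame e ∧ M.presheaf.germ U x hx e = t := by
  classical
  obtain ⟨W, hxW, m, rfl⟩ := TopCat.Presheaf.exists_germ_eq M.presheaf t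
  obtain ⟨_, ⟨V, hV, rfl⟩, hxV, hVW⟩ := X.isBasis_affineOpens.exists_subset_of_mem_open hxW W.isOpen
  replace hVW : V ≤ W := hVW
  have hV' : IsAffineOpen V := hV
  rw [show (M.presheaf.germ W x hxW).hom m = M.presheaf.germ V x hxV (AModX.res M hVW m) from
    (RefX.germ_res M hVW hxV m).symm] at ht
  haveI := QCoh.finite_sections hc hV'
  obtain ⟨k, gen, hgen⟩ := Module.Finite.exists_fin (R := Γ(X, V)) (M := Γ(M, V))
  have hj : ∀ j, ∃ (p q : Γ(X, V)), x ∈ X.basicOpen q ∧ q • gen j = p • AModX.res M hVW m := by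
    intro j
    obtain ⟨c, hc'⟩ := Submodule.mem_span_singleton.1 (ht.ge (Submodule.mem_top : M.presheaf.germ V x hxV (gen j) ∈ ⊤))
    letI := QCoh.stalkAlg (X := X) hxV
    haveI := QCoh.isLocalization_stalk' hV' hxV
    obtain ⟨⟨p, q⟩, hpq⟩ := IsLocalization.surj (hV'.primeIdealOf ⟨x, hxV⟩).asIdeal.primeCompl c
    refine ⟨p, q.1, (QCoh.mem_basicOpen_iff_notMem hV' hxV q.1).2 q.2, hM.section_ext fun hη => ?_⟩
    have h1 : M.presheaf.germ V x hxV (q.1 • gen j) = M.presheaf.germ V x hxV (p • AModX.res M hVW m) := by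
      rw [QCoh.germ_smul', QCoh.germ_smul', ← hc', smul_smul, mul_comm]
      exact congrArg (· • _) hpq
    have h2 := congrArg (toGen M x) h1
    rwa [toGen_germ, toGen_germ] at h2
  choose p q hq hpq using hj
  have hxd : x ∈ X.basicOpen (∏ j, q j) := by
    rw [X.mem_basicOpen _ x hxV, map_prod]
    exact IsUnit.prod_univ_iff.2 fun j => (X.mem_basicOpen _ x hxV).1 (hq j)
  let U : X.Opens := X.basicOpen (∏ j, q j)
  have hUV : U ≤ V := X.basicOpen_le _
  refine ⟨U, hxd, AModX.res M (hUV.trans hVW) m, InvX.isFrame_of_germ fun y hy => ?_, RefX.germ_res M _ _ m⟩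
  have hyV := hUV hy
  rw [RefX.germ_res]
  have hgy : M.presheaf.germ W y (hVW hyV) m = M.presheaf.germ V y hyV (AModX.res M hVW m) :=
    (RefX.germ_res M hVW hyV m).symm
  have hspan : ∀ w : M.presheaf.stalk y, ∃ a : X.presheaf.stalk y, a • M.presheaf.germ W y (hVW hyV) m = w := by
    have hqy : ∀ j, IsUnit (X.presheaf.germ V y hyV (q j)) := fun j => by
      have := (X.mem_basicOpen _ y hyV).1 hy
      rw [map_prod] at this
      exact IsUnit.prod_univ_iff.1 this j
    have hsub : ∀ n : Γ(M, V), M.presheaf.germ V y hyV n ∈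
        Submodule.span (X.presheaf.stalk y) {M.presheaf.germ W y (hVW hyV) m} := by
      intro n
      have hn : n ∈ Submodule.span Γ(X, V) (Set.range gen) := hgen ▸ trivial
      induction hn using Submodule.span_induction with
      | mem w hws =>
        obtain ⟨j, rfl⟩ := hws
        obtain ⟨u, hu⟩ := hqy j
        have h1 := congrArg (M.presheaf.germ V y hyV) (hpq j)
        rw [QCoh.germ_smul', QCoh.germ_smul', ← hgy, ← hu] at h1
        rw [← one_smul (X.presheaf.stalk y) (M.presheaf.germ V y hyV (gen j)), ← Units.inv_mul u, mul_smul, h1,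
          smul_smul]
        exact Submodule.smul_mem _ _ (Submodule.mem_span_singleton_self _)
      | zero => rw [map_zero]; exact zero_mem _
      | add a b _ _ ha hb => rw [map_add]; exact add_mem ha hb
      | smul c a _ ha => rw [QCoh.germ_smul']; exact Submodule.smul_mem _ _ ha
    intro w
    letI := QCoh.stalkModule M hyV
    haveI := QCoh.isLocalizedModule_germLin (QCoh.isCoh_iff.1 hc).1 hV' hyV
    obtain ⟨⟨n, s⟩, hns⟩ := IsLocalizedModule.surj (hV'.primeIdealOf ⟨y, hyV⟩).asIdeal.primeCompl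
      (QCoh.germLin M hyV) w
    obtain ⟨a, ha⟩ := Submodule.mem_span_singleton.1 (hsub n)
    have hu := (X.mem_basicOpen _ y hyV).1 ((QCoh.mem_basicOpen_iff_notMem hV' hyV s.1).2 s.2)
    refine ⟨hu.unit⁻¹.val * a, hu.smul_left_cancel.1 ?_⟩
    rw [mul_smul, ha, smul_smul, IsUnit.mul_val_inv, one_smul]
    exact hns.symm
  refine ⟨fun a b hab => ?_, hspan⟩
  have hab' : (a - b) • M.presheaf.germ W y (hVW hyV) m = 0 := by
    rw [sub_smul]; exact sub_eq_zero.2 hab
  refine sub_eq_zero.1 ((hM.noZeroSMul y _ _ hab').resolve_right fun h0 => ?_)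
  obtain ⟨g, hg, hgs⟩ := hr
  obtain ⟨a', ha', w, hw⟩ := exists_smul_mem_lat (QCoh.isCoh_iff.1 hc).1 y g
  obtain ⟨b', rfl⟩ := hspan w
  rw [h0, smul_zero, map_zero] at hw
  exact hg ((smul_eq_zero.1 hw.symm).resolve_left
    ((map_ne_zero_iff _ (FaithfulSMul.algebraMap_injective _ _)).2 ha'))

theorem exists_frame_generic [IsLocallyNoetherian X] {M : X.Modules} (hc : Coh.IsCoh M) (hM : TF M) (hr : Rk1 M) :
    ∃ (U : X.Opens) (_ : genericPoint X ∈ U) (e : Γ(M, U)), InvX.IsFrame e := by
  obtain ⟨g, hg, hs⟩ := id hr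
  obtain ⟨U, hU, e, he, -⟩ := exists_frame_of_span hc hM hr
    (t := g) (eq_top_iff.2 fun v _ => Submodule.mem_span_singleton.2 (hs v))
  exact ⟨U, hU, e, he⟩

theorem genInvertible_of_rk1 [IsLocallyNoetherian X] {M : X.Modules} (hc : Coh.IsCoh M) (hM : TF M) (hr : Rk1 M) :
    RefHull.GenInvertible M := by
  obtain ⟨U, hU, e, he⟩ := exists_frame_generic hc hM hr
  exact genInvertible_of_isFrame he hU

end Groth.Agent.RefX2
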