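import Groth.Agent.RefX2.Ord
import Groth.Agent.S1692

/-!
# Local finiteness for orders
-/

universe u

set_option backward.isDefEq.respectTransparency false
set_option backward.isDefEq.respectTransparency.types false
set_option linter.style.haveILetI false

open CategoryTheory AlgebraicGeometry TopologicalSpace Opposite

namespace Groth.Agent.RefX2

variable {X : Scheme.{u}}

theorem finite_nhd_of_cycle (D : AlgebraicCycle X ℤ) (x : X) :
    ∃ U : X.Opens, x ∈ U ∧ {z : X | z ∈ U ∧ D z ≠ 0}.Finite := by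
  obtain ⟨t, ht, hfin⟩ := D.supportLocallyFiniteWithinDomain' x trivial
  obtain ⟨V, hVt, hVo, hxV⟩ := mem_nhds_iff.1 ht
  exact ⟨⟨V, hVo⟩, hxV, hfin.subset fun z hz => ⟨hVt hz.1, hz.2⟩⟩

/-- Finitely many points not generizing `x` can be avoided. -/
theorem exists_nhd_avoid {x : X} {U : X.Opens} (hx : x ∈ U) (P : X → Prop)
    (hfin : {z : X | z ∈ U ∧ P z}.Finite) (hP : ∀ z : X, z ⤳ x → ¬ P z) :
    ∃ W : X.Opens, x ∈ W ∧ W ≤ U ∧ ∀ z ∈ W, ¬ P z := by
  let C : Set X := ⋃ z ∈ {z : X | z ∈ U ∧ P z}, closure {z}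
  have hC : IsClosed C := hfin.isClosed_biUnion fun _ _ => isClosed_closure
  refine ⟨U ⊓ ⟨Cᶜ, hC.isOpen_compl⟩, ⟨hx, fun h => ?_⟩, inf_le_left, fun z hz hPz => hz.2 ?_⟩
  · obtain ⟨z, hz, hxz⟩ := Set.mem_iUnion₂.1 h
    exact hP z (specializes_iff_mem_closure.2 hxz) hz.2
  · exact Set.mem_iUnion₂.2 ⟨z, ⟨hz.1, hPz⟩, subset_closure rfl⟩

variable [IsIntegral X] [IsLocallyNoetherian X]

theorem ord_finite_nhd (f : X.functionField) (x : X) :
    ∃ U : X.Opens, x ∈ U ∧ {z : X | z ∈ U ∧ Scheme.ord f z ≠ 0}.Finite := by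
  rcases eq_or_ne f 0 with rfl | hf
  · exact ⟨⊤, trivial, Set.finite_empty.subset fun z hz => absurd (congrFun Scheme.ord_zero z) hz.2⟩
  obtain ⟨t, ht, hfin⟩ := S1692.result X f hf x
  obtain ⟨V, hVt, hVo, hxV⟩ := mem_nhds_iff.1 ht
  refine ⟨⟨V, hVo⟩, hxV, (hfin.image Subtype.val).subset ?_⟩
  rintro z ⟨hz, hne⟩
  have h1 : Order.coheight z = 1 := by
    by_contra h1
    exact hne (Scheme.ord_eq_zero_of_coheight_neq_one h1 f)
  exact ⟨⟨z, h1, hne⟩, ⟨z, subset_closure rfl, hVt hz⟩, rfl⟩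

theorem exists_ord_eq_one (hX : Pi1.IsNormalScheme X) {x : X} (hx : Order.coheight x = 1) :
    ∃ c : X.functionField, c ≠ 0 ∧ Scheme.ord c x = 1 := by
  haveI := CDiv6.isDVR_of_coheight_one hX hx
  haveI : Ring.KrullDimLE 1 (X.presheaf.stalk x) := krullDimLE_of_coheight_le hx.le
  obtain ⟨p, hp⟩ := IsDiscreteValuationRing.exists_irreducible (X.presheaf.stalk x)
  have hne : algebraMap (X.presheaf.stalk x) X.functionField p ≠ 0 :=
    (map_ne_zero_iff _ (FaithfulSMul.algebraMap_injective _ _)).2 hp.ne_zero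
  refine ⟨_, hne, (Scheme.ord_eq_iff hx hne).2 ?_⟩
  exact Ring.ordFrac_irreducible hp

theorem ord_one (x : X) : Scheme.ord (1 : X.functionField) x = 0 := by
  have := Scheme.ord_mul (x := x) (one_ne_zero (α := X.functionField)) one_ne_zero
  rw [one_mul] at this
  omega

theorem ord_inv {f : X.functionField} (hf : f ≠ 0) (x : X) : Scheme.ord f⁻¹ x = - Scheme.ord f x := by
  have := Scheme.ord_mul (x := x) hf (inv_ne_zero hf)
  rw [mul_inv_cancel₀ hf, ord_one] at this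
  omega

theorem exists_ord_eq (hX : Pi1.IsNormalScheme X) {x : X} (hx : Order.coheight x = 1) (n : ℤ) :
    ∃ c : X.functionField, c ≠ 0 ∧ Scheme.ord c x = n := by
  obtain ⟨c, hc, hcx⟩ := exists_ord_eq_one hX hx
  have hpow : ∀ m : ℕ, Scheme.ord (c ^ m) x = m := by
    intro m
    induction m with
    | zero => rw [pow_zero]; exact ord_one x
    | succ k ih => rw [pow_succ, Scheme.ord_mul (pow_ne_zero k hc) hc, ih, hcx]; push_cast; ring
  obtain ⟨m, rfl | rfl⟩ := Int.eq_nat_or_neg n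
  · exact ⟨c ^ m, pow_ne_zero m hc, hpow m⟩
  · exact ⟨(c ^ m)⁻¹, inv_ne_zero (pow_ne_zero m hc), by rw [ord_inv (pow_ne_zero m hc), hpow]⟩

theorem one_le_ord_of_notMem_basicOpen (hX : Pi1.IsNormalScheme X) {V : X.Opens} {x : X} (hxV : x ∈ V)
    (hx : Order.coheight x = 1) (q : Γ(X, V)) (hne : algebraMap (X.presheaf.stalk x) X.functionField (X.presheaf.germ V x hxV q) ≠ 0)
    (hq : x ∉ X.basicOpen q) :
    1 ≤ Scheme.ord (algebraMap (X.presheaf.stalk x) X.functionField (X.presheaf.germ V x hxV q)) x := by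
  have h0 := CDiv6.reg_ord_nonneg (y := x) hne ⟨_, rfl⟩
  by_contra h1
  obtain ⟨b, hb⟩ := CDiv6.reg_of_ord_nonneg hX hx (inv_ne_zero hne) (by rw [ord_inv hne]; omega)
  refine hq ((X.mem_basicOpen q x hxV).2 (IsUnit.of_mul_eq_one b (FaithfulSMul.algebraMap_injective (X.presheaf.stalk x) X.functionField ?_)))
  rw [map_mul, hb, map_one, mul_inv_cancel₀ hne]

/-- Away from a nonempty open there are only finitely many codimension one points near any point. -/
theorem finite_codim_one_off (hX : Pi1.IsNormalScheme X) {W : X.Opens} (hW : genericPoint X ∈ W) (x : X) :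
    ∃ U : X.Opens, x ∈ U ∧ {z : X | z ∈ U ∧ Order.coheight z = 1 ∧ z ∉ W}.Finite := by
  obtain ⟨_, ⟨V, hV, rfl⟩, hxV, -⟩ :=
    X.isBasis_affineOpens.exists_subset_of_mem_open (Set.mem_univ x) isOpen_univ
  have hV' : IsAffineOpen V := hV
  obtain ⟨q, hqW, hηq⟩ := hV'.exists_basicOpen_le ⟨genericPoint X, hW⟩ (gen_mem hxV)
  let qK : X.functionField := X.presheaf.germ V (genericPoint X) (gen_mem hxV) q
  obtain ⟨U, hxU, hfin⟩ := ord_finite_nhd qK x
  refine ⟨U ⊓ V, ⟨hxU, hxV⟩, hfin.subset ?_⟩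
  rintro z ⟨⟨hzU, hzV⟩, hz1, hzW⟩
  have he : algebraMap (X.presheaf.stalk z) X.functionField (X.presheaf.germ V z hzV q) = qK :=
    TopCat.Presheaf.germ_stalkSpecializes_apply X.presheaf hzV _ q
  have hne : qK ≠ 0 := ((X.mem_basicOpen q _ (gen_mem hxV)).1 hηq).ne_zero
  refine ⟨hzU, fun h0 => ?_⟩
  have := one_le_ord_of_notMem_basicOpen hX hzV hz1 q (he ▸ hne) (fun h => hzW (hqW h))
  rw [he, h0] at this
  omega

end Groth.Agent.RefX2
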