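import Groth.Agent.RefX2.Codim
import Groth.Agent.RefX2.OrdFin
import Groth.Agent.RegLoc6.Normal
import Groth.Prelude.Def_TorSh

/-!
# Normal torsion free modules are reflexive
-/

universe u

set_option backward.isDefEq.respectTransparency false
set_option backward.isDefEq.respectTransparency.types false
set_option linter.style.haveILetI false

open CategoryTheory AlgebraicGeometry TopologicalSpace Opposite

namespace Groth.Agent.RefX2

variable {X : Scheme.{u}}

theorem isNormalScheme_of_regular (hreg : ∀ x : X, IsRegularLocalRing (X.presheaf.stalk x)) :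
    Pi1.IsNormalScheme X := fun x => by
  haveI := hreg x
  exact ⟨RegLoc6.isDomain_of_isRegularLocalRing _, RegLoc6.isIntegrallyClosed_of_isRegularLocalRing _⟩

variable [IsIntegral X]

theorem tf_of_isTorsionFree {M : X.Modules} (hM : Coh.IsQCoh M) (h : TorSh.IsTorsionFree M) : TF M :=
  tf_of_smul_eq_zero hM fun x a m ham => or_iff_not_imp_left.2 fun ha => by
    haveI := h x
    exact (IsRegular.of_ne_zero ha).smul_eq_zero_iff_right.1 ham

theorem TF.isTorsionFree {M : X.Modules} (hM : TF M) : TorSh.IsTorsionFree M := fun x =>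
  ⟨fun a ha m n hmn => sub_eq_zero.1 ((hM.noZeroSMul x a (m - n)
    (by rw [smul_sub, sub_eq_zero]; exact hmn)).resolve_left ha.ne_zero)⟩

theorem eq_genericPoint_of_coheight_zero {z : X} (h : Order.coheight z = 0) : z = genericPoint X :=
  (Specializes.antisymm (Order.coheight_eq_zero.1 h (gen_spec z)) (gen_spec z)).eq

theorem mem_of_coheight_zero {z : X} (h : Order.coheight z = 0) {U : X.Opens} {x : X} (hx : x ∈ U) : z ∈ U :=
  eq_genericPoint_of_coheight_zero h ▸ gen_mem hx

theorem coheight_genericPoint : Order.coheight (genericPoint X) = 0 :=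
  Order.coheight_eq_zero.2 fun _ _ => gen_spec _

theorem two_le_dim {z : X} (h0 : Order.coheight z ≠ 0) (h1 : Order.coheight z ≠ 1) :
    (2 : WithBot ℕ∞) ≤ ringKrullDim (X.presheaf.stalk z) := by
  rw [ringKrullDim_stalk_eq_coheight]
  have h2 : (2 : ℕ∞) ≤ Order.coheight z := by
    generalize Order.coheight z = c at *
    cases c with
    | top => exact le_top
    | coe n => norm_cast at *; omega
  exact WithBot.coe_le_coe.2 h2

theorem coheight_ne_of_two_le {z : X} (h : (2 : WithBot ℕ∞) ≤ ringKrullDim (X.presheaf.stalk z)) :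
    Order.coheight z ≠ 0 ∧ Order.coheight z ≠ 1 := by
  rw [ringKrullDim_stalk_eq_coheight] at h
  constructor <;>
  · intro e
    rw [e] at h
    have h' := WithBot.coe_le_coe.1 (h : ((2 : ℕ∞) : WithBot ℕ∞) ≤ _)
    norm_num at h'

/-- Restriction of sections across codimension two is bijective on modules cut out in codimension one. -/
theorem Hart.bijective_res {M : X.Modules} (hM : Hart M) {U V : X.Opens} (hVU : V ≤ U)
    (h : ∀ x : X, x ∈ U → x ∉ V → (2 : WithBot ℕ∞) ≤ ringKrullDim (X.presheaf.stalk x)) :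
    Function.Bijective (AModX.res M hVU) := by
  have hη : genericPoint X ∈ U → genericPoint X ∈ V := fun hU => by
    by_contra hV
    exact (coheight_ne_of_two_le (h _ hU hV)).1 coheight_genericPoint
  refine ⟨fun s t hst => hM.1.section_ext fun hU => ?_, fun t => ?_⟩
  · rw [← RefX.germ_res M hVU (hη hU), ← RefX.germ_res M hVU (hη hU), hst]
  by_cases hU : genericPoint X ∈ U
  · obtain ⟨s, hs⟩ := hM.exists_section (W := U) (v := M.presheaf.germ V _ (hη hU) t) fun y hy hy1 =>
      germ_mem_lat (by by_contra hV; exact (coheight_ne_of_two_le (h y hy hV)).2 hy1) _ t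
    exact ⟨s, hM.1.section_ext fun hV => by rw [RefX.germ_res, hs]⟩
  · exact ⟨0, hM.1.section_ext fun hV => absurd (hVU hV) hU⟩

/-- Normal torsion free modules are cut out in codimension one. -/
theorem hart_of_normal [IsLocallyNoetherian X] (hX : Pi1.IsNormalScheme X) {M : X.Modules} (hM : TF M)
    (hn : ∀ (U V : X.Opens) (hVU : V ≤ U),
      (∀ x : X, x ∈ U → x ∉ V → (2 : WithBot ℕ∞) ≤ ringKrullDim (X.presheaf.stalk x)) →
        Function.Surjective (AModX.res M hVU)) : Hart M := by
  refine ⟨hM, fun x v hv => ?_⟩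
  let W₁ : X.Opens := ⟨{z | v ∈ Lat M z}, isOpen_iff_forall_mem_open.2 fun z ⟨m, hm⟩ => by
    obtain ⟨V, hzV, t, rfl⟩ := TopCat.Presheaf.exists_germ_eq M.presheaf m
    refine ⟨V, fun w hw => ?_, V.isOpen, hzV⟩
    rw [toGen_germ] at hm
    exact hm ▸ germ_mem_lat hw (gen_mem hzV) t⟩
  have hη : genericPoint X ∈ W₁ := ⟨v, sp_refl M _ v⟩
  obtain ⟨U, hxU, hfin⟩ := finite_codim_one_off hX hη x
  obtain ⟨W, hxW, -, hW⟩ := exists_nhd_avoid hxU _ hfin fun z hz hP => hP.2 (hv z hz hP.1)
  obtain ⟨t, ht⟩ := exists_section_of_forall_lat hM (W := W ⊓ W₁) (v := v) fun z hz => hz.2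
  obtain ⟨s, hs⟩ := hn W (W ⊓ W₁) inf_le_left (fun z hzW hzV => two_le_dim
    (fun h0 => hzV ⟨hzW, mem_of_coheight_zero h0 (hη : genericPoint X ∈ W₁)⟩)
    (fun h1 => hzV ⟨hzW, by_contra fun h => hW z hzW ⟨h1, h⟩⟩)) t
  refine ⟨M.presheaf.germ W x hxW s, ?_⟩
  rw [toGen_germ, ← RefX.germ_res M (inf_le_left : W ⊓ W₁ ≤ W) ⟨gen_mem hxW, hη⟩, hs, ht]

end Groth.Agent.RefX2
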