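import Groth.Agent.RefX2.Tensor
import Groth.Agent.RefX2.OrdFin
import Groth.Prelude.Def_PicGrp

/-!
# The divisor class of a rank one reflexive module: duals, tensor products, unit
-/

universe u

set_option backward.isDefEq.respectTransparency false
set_option backward.isDefEq.respectTransparency.types false
set_option linter.style.haveILetI false

open CategoryTheory AlgebraicGeometry TopologicalSpace Opposite

namespace Groth.Agent.RefX2

variable {X : Scheme.{u}} [IsIntegral X] [IsLocallyNoetherian X]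

theorem isRef1_unit : RefHull.IsRef1 (Coh.structureModule X) :=
  ⟨RefX.isCoh_unit, (RefX.isReflexive_iff RefX.isCoh_unit).2 fun x => Module.equiv (RefX.unitStalk x),
    genInvertible_of_isFrame (InvX.isFrame_one (⊤ : X.Opens)) (x := genericPoint X) trivial⟩

theorem ordOf_unit (hX : Pi1.IsNormalScheme X) {x : X} (hx : Order.coheight x = 1) :
    ordOf (Coh.structureModule X) x (RefX.unitStalk (genericPoint X) (1 : X.functionField)) = 0 := by
  rw [← ord_one x]
  refine ordOf_eq (tf_of_isRef1 isRef1_unit) hx (t := RefX.unitStalk x 1)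
    (eq_top_iff.2 fun w _ => Submodule.mem_span_singleton.2 ⟨(RefX.unitStalk x).symm w, ?_⟩)
    (fun h => one_ne_zero (α := X.functionField) ((RefX.unitStalk (genericPoint X)).injective (h.trans (map_zero _).symm))) ?_
  · rw [← map_smul, smul_eq_mul, mul_one, LinearEquiv.apply_symm_apply]
  · rw [unitStalk_sp, map_one, one_smul]

omit [IsIntegral X] [IsLocallyNoetherian X] in
theorem evalStalk_smul {F G : X.Modules} (x : X) (a : X.presheaf.stalk x) (θ : (RefHull.homSh F G).presheaf.stalk x)
    (v : F.presheaf.stalk x) : RefHull.evalStalk F G x (a • θ) v = a • RefHull.evalStalk F G x θ v :=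
  congrArg (fun φ => φ v) (map_smul (RefHull.evalStalk F G x) a θ)

omit [IsIntegral X] [IsLocallyNoetherian X] in
theorem evalStalk_smul' {F G : X.Modules} (x : X) (a : X.presheaf.stalk x) (θ : (RefHull.homSh F G).presheaf.stalk x)
    (v : F.presheaf.stalk x) : RefHull.evalStalk F G x θ (a • v) = a • RefHull.evalStalk F G x θ v :=
  map_smul (RefHull.evalStalk F G x θ) a v

/-- The value at the generic point of an element of the generic stalk of the dual. -/
noncomputable def gval {F : X.Modules} (θ : (RefHull.dual F).presheaf.stalk (genericPoint X))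
    (v : F.presheaf.stalk (genericPoint X)) : (Coh.structureModule X).presheaf.stalk (genericPoint X) :=
  RefHull.evalStalk F (Coh.structureModule X) (genericPoint X) θ v

theorem exists_dual_gen {F : X.Modules} (hF : Coh.IsCoh F) (hr : Rk1 F) {s : F.presheaf.stalk (genericPoint X)}
    (hs : s ≠ 0) :
    ∃ w : (RefHull.dual F).presheaf.stalk (genericPoint X), w ≠ 0 ∧
      gval w s = RefX.unitStalk (genericPoint X) (1 : X.functionField) ∧
      ∀ v, ∃ c : X.functionField, c • w = v := by
  have hfp := QCoh.isCoh_iff_isFP.1 hF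
  have hb := RefX.evalStalk_bijective (G := Coh.structureModule X) hfp (genericPoint X)
  let e := LinearEquiv.ofBijective
    (LinearMap.toSpanSingleton (X.presheaf.stalk (genericPoint X)) (F.presheaf.stalk (genericPoint X)) s)
    ⟨fun a b h => smul_left_injective X.functionField hs h, fun w => hr.exists_smul hs w⟩
  obtain ⟨w, hw⟩ := hb.2 ((RefX.unitStalk (genericPoint X)).toLinearMap.comp e.symm.toLinearMap)
  have hws : gval w s = RefX.unitStalk (genericPoint X) (1 : X.functionField) := by
    show RefHull.evalStalk F _ _ w s = _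
    rw [hw]
    show RefX.unitStalk _ (e.symm s) = _
    congr 1
    rw [LinearEquiv.symm_apply_eq]
    exact (one_smul (X.presheaf.stalk (genericPoint X)) s).symm
  refine ⟨w, fun h0 => ?_, hws, fun v => ?_⟩
  · rw [h0] at hws
    refine one_ne_zero (α := X.functionField) ((RefX.unitStalk (genericPoint X)).injective ?_)
    rw [← hws, map_zero]
    exact (congrArg (fun φ => φ s) (map_zero (RefHull.evalStalk F (Coh.structureModule X) (genericPoint X)))).trans
      (LinearMap.zero_apply s)
  · refine ⟨(RefX.unitStalk (genericPoint X)).symm (gval v s), hb.1 (LinearMap.ext fun m => ?_)⟩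
    obtain ⟨c, rfl⟩ := hr.exists_smul hs m
    erw [evalStalk_smul', evalStalk_smul', evalStalk_smul]
    show c • _ • gval w s = c • gval v s
    rw [hws, ← map_smul (RefX.unitStalk (genericPoint X)) ((RefX.unitStalk (genericPoint X)).symm (gval v s)), smul_eq_mul, mul_one,
      LinearEquiv.apply_symm_apply]

theorem rk1_dual {F : X.Modules} (hF : Coh.IsCoh F) (hr : Rk1 F) : Rk1 (RefHull.dual F) := by
  obtain ⟨s, hs, -⟩ := id hr
  obtain ⟨w, hw, -, hall⟩ := exists_dual_gen hF hr hs
  exact ⟨w, hw, hall⟩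

theorem isRef1_dual {F : X.Modules} (hF : RefHull.IsRef1 F) : RefHull.IsRef1 (RefHull.dual F) :=
  ⟨RefX.isCoh_dual hF.1, isReflexive_dual hF.1, genInvertible_of_rk1 (RefX.isCoh_dual hF.1)
    (tf_of_isReflexive (RefX.isCoh_dual hF.1) (isReflexive_dual hF.1)) (rk1_dual hF.1 (rk1_of_genInvertible hF.2.2))⟩

theorem ordOf_dual (hX : Pi1.IsNormalScheme X) {F : X.Modules} (hF : RefHull.IsRef1 F)
    {s : F.presheaf.stalk (genericPoint X)} (hs : s ≠ 0)
    {w : (RefHull.dual F).presheaf.stalk (genericPoint X)}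
    (hws : gval w s = RefX.unitStalk (genericPoint X) (1 : X.functionField))
    {x : X} (hx : Order.coheight x = 1) : ordOf (RefHull.dual F) x w = - ordOf F x s := by
  have hfp := QCoh.isCoh_iff_isFP.1 hF.1
  have hr := rk1_of_genInvertible hF.2.2
  obtain ⟨t, φ, ht, hφ0, ht0, hφ, hord⟩ := exists_coord hX hF.1 (tf_of_isRef1 hF) hr hx hs
  rw [hord, ← ord_inv hφ0]
  have htb : Function.Bijective (LinearMap.toSpanSingleton (X.presheaf.stalk x) (F.presheaf.stalk x) t) := by
    refine ⟨fun a b h => sub_eq_zero.1 (((tf_of_isRef1 hF).noZeroSMul x (a - b) t ?_).resolve_right fun h0 => ht0 ?_),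
      fun m => Submodule.mem_span_singleton.1 (ht.ge (Submodule.mem_top : m ∈ ⊤))⟩
    · rw [sub_smul]; exact sub_eq_zero.2 h
    · rw [h0, map_zero]
  let e := LinearEquiv.ofBijective _ htb
  have hbx := RefX.evalStalk_bijective (G := Coh.structureModule X) hfp x
  obtain ⟨θ, hθ⟩ := hbx.2 ((RefX.unitStalk x).toLinearMap.comp e.symm.toLinearMap)
  have hθt : RefHull.evalStalk F (Coh.structureModule X) x θ t = RefX.unitStalk x 1 := by
    rw [hθ]
    show RefX.unitStalk x (e.symm t) = _
    congr 1
    rw [LinearEquiv.symm_apply_eq]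
    exact (one_smul (X.presheaf.stalk x) t).symm
  have hspan : Submodule.span (X.presheaf.stalk x) {θ} = ⊤ := eq_top_iff.2 fun η _ => by
    refine Submodule.mem_span_singleton.2
      ⟨(RefX.unitStalk x).symm (RefHull.evalStalk F (Coh.structureModule X) x η t), hbx.1 (LinearMap.ext fun m => ?_)⟩
    obtain ⟨a, rfl⟩ := Submodule.mem_span_singleton.1 (ht.ge (Submodule.mem_top : m ∈ ⊤))
    erw [evalStalk_smul', evalStalk_smul', evalStalk_smul, hθt]
    rw [← map_smul (RefX.unitStalk x) ((RefX.unitStalk x).symm _), smul_eq_mul, mul_one, LinearEquiv.apply_symm_apply]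
  refine ordOf_eq (tf_of_isRef1 (isRef1_dual hF)) hx hspan (fun h0 => ?_) ?_
  · rw [h0] at hws
    refine one_ne_zero (α := X.functionField) ((RefX.unitStalk (genericPoint X)).injective ?_)
    rw [← hws, map_zero]
    exact (congrArg (fun φ => φ s) (map_zero (RefHull.evalStalk F (Coh.structureModule X) (genericPoint X)))).trans
      (LinearMap.zero_apply s)
  · refine (RefX.evalStalk_bijective (G := Coh.structureModule X) hfp (genericPoint X)).1 (LinearMap.ext fun m => ?_)
    obtain ⟨c, rfl⟩ := hr.exists_smul hs m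
    have h1 : RefHull.evalStalk F (Coh.structureModule X) (genericPoint X) (toGen (RefHull.dual F) x θ) (toGen F x t) =
        RefX.unitStalk (genericPoint X) (1 : X.functionField) := by
      rw [show toGen (RefHull.dual F) x θ = sp (RefHull.homSh F (Coh.structureModule X)) (gen_spec x) θ from rfl,
        show toGen F x t = sp F (gen_spec x) t from rfl, evalStalk_sp, hθt]
      exact (unitStalk_sp x 1).trans (by rw [map_one])
    erw [evalStalk_smul', evalStalk_smul', evalStalk_smul]
    show c • φ⁻¹ • _ = c • gval w s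
    rw [hws, ← hφ]
    erw [evalStalk_smul', h1]
    rw [smul_smul φ⁻¹ φ, inv_mul_cancel₀ hφ0, one_smul]

/-- `F` is rank one reflexive with a rational section of the given orders. -/
def HasDiv (F : X.Modules) (d : X → ℤ) : Prop :=
  RefHull.IsRef1 F ∧ ∃ s : F.presheaf.stalk (genericPoint X), s ≠ 0 ∧
    ∀ x : X, Order.coheight x = 1 → ordOf F x s = d x

theorem exists_hasDiv {F : X.Modules} (hF : RefHull.IsRef1 F) : ∃ d, HasDiv F d := by
  obtain ⟨s, hs, -⟩ := rk1_of_genInvertible hF.2.2
  exact ⟨fun x => ordOf F x s, hF, s, hs, fun _ _ => rfl⟩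

variable (hX : Pi1.IsNormalScheme X)

include hX

theorem HasDiv.iso {F G : X.Modules} {d : X → ℤ} (hF : HasDiv F d) (hG : HasDiv G d) : Nonempty (F ≅ G) := by
  obtain ⟨hF, s, hs, h⟩ := hF
  obtain ⟨hG, t, ht, h'⟩ := hG
  exact (nonempty_iso_iff hX hF hG hs ht).2
    ⟨1, one_ne_zero, fun x hx => by rw [h x hx, h' x hx, ord_one, add_zero]⟩

theorem HasDiv.of_iso {F G : X.Modules} {d : X → ℤ} (hF : HasDiv F d) (hG : RefHull.IsRef1 G) (e : F ≅ G) :
    HasDiv G d := by
  obtain ⟨hF, s, hs, h⟩ := hF
  have hb := stalkMap_iso_bijective e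
  exact ⟨hG, _, fun h0 => hs ((hb _).1 (h0.trans (map_zero _).symm)), fun x hx =>
    (ordOf_map hX hF.1 (tf_of_isRef1 hF) (tf_of_isRef1 hG) (rk1_of_genInvertible hF.2.2) hx e.hom (hb _).1 (hb x).2 hs).trans
      (h x hx)⟩

theorem HasDiv.tensor {F G : X.Modules} {d d' : X → ℤ} (hF : HasDiv F d) (hG : HasDiv G d') :
    HasDiv (RefHull.ddual (CohB1.tensorMod F G)) (d + d') := by
  obtain ⟨hF, s, hs, h⟩ := hF
  obtain ⟨hG, t, ht, h'⟩ := hG
  exact ⟨isRef1_refTensor hF hG, refTmul F G s t,
    refTmul_ne_zero hF.1 hG.1 (rk1_of_genInvertible hF.2.2) (rk1_of_genInvertible hG.2.2) hs ht,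
    fun x hx => by rw [ordOf_refTmul hX hF hG hs ht hx, h x hx, h' x hx, Pi.add_apply]⟩

theorem HasDiv.dual {F : X.Modules} {d : X → ℤ} (hF : HasDiv F d) : HasDiv (RefHull.dual F) (-d) := by
  obtain ⟨hF, s, hs, h⟩ := hF
  obtain ⟨w, hw, hws, -⟩ := exists_dual_gen hF.1 (rk1_of_genInvertible hF.2.2) hs
  exact ⟨isRef1_dual hF, w, hw, fun x hx => by rw [ordOf_dual hX hF hs hws hx, h x hx, Pi.neg_apply]⟩

theorem hasDiv_unit : HasDiv (Coh.structureModule X) 0 :=
  ⟨isRef1_unit, _, fun h => one_ne_zero (α := X.functionField)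
    ((RefX.unitStalk (genericPoint X)).injective (h.trans (map_zero _).symm)), fun _ hx => ordOf_unit hX hx⟩

end Groth.Agent.RefX2
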