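import Groth.Agent.RefX.Reflexive
import Groth.Agent.CAlgOdd.Reflexive
import Groth.Agent.RegLoc6.Serre
import Groth.Agent.RegLoc6.Basic

/-!
# Reflexive modules in dimension at most two
-/

universe u

namespace Groth.Agent.RefX2

open Groth.Agent.RegLoc6 IsLocalRing

/-- A finite reflexive module over a regular local ring of dimension at most two is free. -/
theorem free_of_isReflexive_of_dim_le_two (A : Type u) [CommRing A] [IsRegularLocalRing A]
    (hd : ringKrullDim A ≤ 2) (M : Type u) [AddCommGroup M] [Module A M] [Module.Finite A M]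
    [Module.IsReflexive A M] : Module.Free A M := by
  haveI := isDomain_of_isRegularLocalRing A
  obtain ⟨n, m, f, g, hf, hfg⟩ := CAlgOdd.Refl.exists_exact_free (R := A) (M := M)
  have h2 : (maximalIdeal A).spanFinrank ≤ 1 + 1 := by
    have h1 := (isRegularLocalRing_iff A).mp inferInstance
    rw [← h1] at hd
    exact_mod_cast hd
  have hC : PdLE A (1 + 1) ((Fin m → A) ⧸ LinearMap.range g) :=
    pdLE_mono h2 (pdLE_of_isRegularLocalRing A _)
  have hK : PdLE A (0 + 1) (LinearMap.range g) := by
    have h3 := pdLE_ker (LinearMap.range g).mkQ (Submodule.mkQ_surjective _) hC (pdLE_of_projective 1)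
    exact pdLE_of_equiv (LinearEquiv.ofEq _ _ (Submodule.ker_mkQ _)) h3
  have hM0 := pdLE_ker g.rangeRestrict g.surjective_rangeRestrict hK (pdLE_of_projective 0)
  have e : LinearMap.ker g.rangeRestrict ≃ₗ[A] M :=
    ((LinearEquiv.ofInjective f hf).trans (LinearEquiv.ofEq _ _
      (by rw [LinearMap.ker_rangeRestrict]; exact (LinearMap.exact_iff.1 hfg).symm))).symm
  haveI : Module.Projective A M := pdLE_zero_iff.1 (pdLE_of_equiv e hM0)
  exact Module.free_of_flat_of_isLocalRing

end Groth.Agent.RefX2
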