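import Groth.Agent.RefX2.Codim
import Groth.Agent.QCoh.LocFree
import Groth.Agent.QCoh.Pullback
import Groth.Agent.SchTop.Closed
import Groth.Prelude.Def_FlatMod2

/-!
# The locus where a module is locally free
-/

universe u

set_option backward.isDefEq.respectTransparency false
set_option backward.isDefEq.respectTransparency.types false
set_option linter.style.haveILetI false

open CategoryTheory AlgebraicGeometry TopologicalSpace Opposite

namespace Groth.Agent.RefX2

variable {X : Scheme.{u}}

/-- The largest open on which a module is finite locally free. -/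
noncomputable def freeLocus (M : X.Modules) : X.Opens :=
  sSup {V : X.Opens | ∃ n : ℕ, Nonempty (M.restrict V.ι ≅ FlatMod.freeMod (V : Scheme.{u}) n)}

/-- Restricting a trivialisation to an open subscheme. -/
theorem exists_free_restrict_restrict {M : X.Modules} (U V : X.Opens) {n : ℕ}
    (i : M.restrict V.ι ≅ FlatMod.freeMod (V : Scheme.{u}) n) :
    Nonempty ((M.restrict U.ι).restrict (U.ι ⁻¹ᵁ V).ι ≅ FlatMod.freeMod ((U.ι ⁻¹ᵁ V : (U : Scheme.{u}).Opens) : Scheme.{u}) n) :=
  ⟨QCoh.restrictRestrict M _ U.ι ≪≫
    (Scheme.Modules.restrictFunctorCongr (morphismRestrict_ι U.ι V).symm).app M ≪≫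
    (QCoh.restrictRestrict M _ V.ι).symm ≪≫ (Scheme.Modules.restrictFunctor _).mapIso i ≪≫ QCoh.freeModRestrict _ n⟩

theorem isFinLocFree_freeLocus (M : X.Modules) : FlatMod.IsFinLocFree (M.restrict (freeLocus M).ι) := fun z => by
  have hz : z.1 ∈ sSup {V : X.Opens | ∃ n : ℕ, Nonempty (M.restrict V.ι ≅ FlatMod.freeMod (V : Scheme.{u}) n)} := z.2
  obtain ⟨V, ⟨n, ⟨i⟩⟩, hx⟩ := Opens.mem_sSup.1 hz
  exact ⟨_, n, hx, exists_free_restrict_restrict (M := M) (freeLocus M) V i⟩

theorem mem_freeLocus {M : X.Modules} (hfp : CohB1.IsFP M) (x : X)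
    [Module.Free (X.presheaf.stalk x) (M.presheaf.stalk x)] : x ∈ freeLocus M := by
  obtain ⟨U, n, hx, h⟩ := QCoh.exists_free_nhd_of_free_stalk hfp x
  exact Opens.mem_sSup.2 ⟨U, ⟨n, h⟩, hx⟩

variable [IsIntegral X] [IsLocallyNoetherian X]

/-- A torsion free coherent module on a normal scheme is locally free in codimension at most one. -/
theorem two_le_dim_off_freeLocus (hX : Pi1.IsNormalScheme X) {M : X.Modules} (hM : Coh.IsCoh M)
    (htf : ∀ x : X, Module.IsTorsionFree (X.presheaf.stalk x) (M.presheaf.stalk x)) {x : X}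
    (hx : x ∉ freeLocus M) : (2 : WithBot ℕ∞) ≤ ringKrullDim (X.presheaf.stalk x) := by
  by_contra h
  refine hx ?_
  haveI := finite_stalk hM x
  haveI := htf x
  haveI : IsPrincipalIdealRing (X.presheaf.stalk x) := by
    rw [ringKrullDim_stalk_eq_coheight] at h
    have h' : Order.coheight x < 2 := WithBot.coe_lt_coe.1 (not_le.1 h)
    obtain h0 | h1 : Order.coheight x = 0 ∨ Order.coheight x = 1 := by
      generalize Order.coheight x = c at *
      cases c with
      | top => exact absurd h' (not_lt.2 le_top)
      | coe k => norm_cast at *; omega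
    · haveI := (hX x).1
      haveI : Ring.KrullDimLE 0 (X.presheaf.stalk x) := Ring.krullDimLE_iff.2 (by
        rw [ringKrullDim_stalk_eq_coheight, h0]; exact le_rfl)
      have hf := Ring.KrullDimLE.isField_of_isDomain (R := X.presheaf.stalk x)
      letI := hf.toField
      infer_instance
    · haveI := CDiv6.isDVR_of_coheight_one hX h1
      infer_instance
  haveI : Module.Free (X.presheaf.stalk x) (M.presheaf.stalk x) := Module.free_of_finite_type_torsion_free'
  exact mem_freeLocus (QCoh.isCoh_iff_isFP.1 hM) x

end Groth.Agent.RefX2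

namespace Groth.Agent.RefX2

/-- A connected Noetherian normal scheme is integral. -/
theorem isIntegral_of_normal_connected {X : Scheme.{u}} [IsNoetherian X] [ConnectedSpace X]
    (hN : Pi1.IsNormalScheme X) : IsIntegral X := by
  haveI : ∀ x : X, _root_.IsReduced (X.presheaf.stalk x) := fun x => by
    haveI := (hN x).1
    infer_instance
  haveI : IsReduced X := isReduced_of_isReduced_stalk X
  obtain ⟨y⟩ := (inferInstance : Nonempty X)
  obtain ⟨Z, hZ, -⟩ := exists_mem_irreducibleComponents_subset_of_isIrreducible _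
    (isIrreducible_singleton (x := y))
  have hop := SchTop.isOpen_component_of_finite (X := X)
    TopologicalSpace.NoetherianSpace.finite_irreducibleComponents (fun x => (hN x).1) hZ
  have hu : Z = Set.univ :=
    IsClopen.eq_univ ⟨isClosed_of_mem_irreducibleComponents Z hZ, hop⟩ hZ.1.nonempty
  haveI : IrreducibleSpace X := by
    rw [irreducibleSpace_def, Set.top_eq_univ, ← hu]
    exact hZ.1
  exact isIntegral_of_irreducibleSpace_of_isReduced X

end Groth.Agent.RefX2
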