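import Groth.Agent.RefX2.Tensor
import Groth.Agent.RefX2.OrdFin

/-!
# Orders of rational sections of invertible modules (no normality)
-/

universe u

set_option backward.isDefEq.respectTransparency false
set_option backward.isDefEq.respectTransparency.types false
set_option linter.style.haveILetI false

open CategoryTheory AlgebraicGeometry TopologicalSpace Opposite

namespace Groth.Agent.RefX2

variable {X : Scheme.{u}} [IsIntegral X] {L : X.Modules}

theorem frame_germ_ne_zero {U : X.Opens} {e : Γ(L, U)} (he : InvX.IsFrame e) (hη : genericPoint X ∈ U) :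
    L.presheaf.germ U (genericPoint X) hη e ≠ 0 := fun h0 => one_ne_zero (α := X.functionField)
  ((he.germ_bijective hη).1 (show (1 : X.functionField) • _ = (0 : X.functionField) • _ by
    rw [one_smul, zero_smul]; exact h0))

theorem tf_of_isInvertible (hL : PicF.IsInvertible L) : TF L := fun x => by
  obtain ⟨U, hx, e, he⟩ := InvX.exists_frame hL x
  refine (injective_iff_map_eq_zero _).2 fun m hm => ?_
  obtain ⟨a, rfl⟩ := (he.germ_bijective hx).2 m
  show a • L.presheaf.germ U x hx e = 0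
  rw [toGen_smul, toGen_germ] at hm
  have := (smul_eq_zero.1 hm).resolve_right (frame_germ_ne_zero he (gen_mem hx))
  rw [(FaithfulSMul.algebraMap_injective (X.presheaf.stalk x) X.functionField) (this.trans (map_zero _).symm),
    zero_smul]

theorem rk1_of_isInvertible (hL : PicF.IsInvertible L) : Rk1 L := by
  obtain ⟨U, hU, e, he⟩ := InvX.exists_frame hL (genericPoint X)
  exact rk1_of_isFrame he hU

variable [IsLocallyNoetherian X]

theorem ordOf_frame (hL : PicF.IsInvertible L) {U : X.Opens} {e : Γ(L, U)} (he : InvX.IsFrame e) {x : X}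
    (hx : x ∈ U) (h1 : Order.coheight x = 1) {v : L.presheaf.stalk (genericPoint X)} (hv : v ≠ 0)
    {φ : X.functionField} (hφ : φ • L.presheaf.germ U (genericPoint X) (gen_mem hx) e = v) :
    ordOf L x v = Scheme.ord φ x :=
  ordOf_eq (tf_of_isInvertible hL) h1 (t := L.presheaf.germ U x hx e)
    (eq_top_iff.2 fun m _ => Submodule.mem_span_singleton.2 ((he.germ_bijective hx).2 m)) hv
    (by rw [toGen_germ]; exact hφ)

theorem locallyFinite_ordOf (hL : PicF.IsInvertible L) {v : L.presheaf.stalk (genericPoint X)} (hv : v ≠ 0) :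
    LocallyFinite (fun x : {x : X // ringKrullDim ↑(X.presheaf.stalk x) = 1 ∧ ordOf L x v ≠ 0} =>
      closure ({x.1} : Set X)) := by
  intro x
  obtain ⟨U, hx, e, he⟩ := InvX.exists_frame hL x
  obtain ⟨φ, hφ⟩ := (rk1_of_isInvertible hL).exists_smul (frame_germ_ne_zero he (gen_mem hx)) v
  obtain ⟨U₁, hU₁, hfin⟩ := ord_finite_nhd φ x
  refine ⟨((U ⊓ U₁ : X.Opens) : Set X), (U ⊓ U₁).isOpen.mem_nhds ⟨hx, hU₁⟩,
    (hfin.preimage Subtype.val_injective.injOn).subset ?_⟩
  rintro ⟨z, hz1, hz2⟩ ⟨w, hw, hwU⟩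
  obtain ⟨hzU, hzU₁⟩ := (specializes_iff_mem_closure.2 hw).mem_open (U ⊓ U₁).isOpen hwU
  refine ⟨hzU₁, fun h0 => hz2 ?_⟩
  rw [ordOf_frame hL he hzU ((ringKrullDim_stalk_eq_coheight z).symm.trans hz1 |> WithBot.coe_inj.1) hv hφ, h0]

theorem exists_tensor_ordOf {N : X.Modules} (hL : PicF.IsInvertible L) (hN : PicF.IsInvertible N)
    {s : L.presheaf.stalk (genericPoint X)} (hs : s ≠ 0) {t : N.presheaf.stalk (genericPoint X)} (ht : t ≠ 0) :
    ∃ w : (CohB1.tensorMod L N).presheaf.stalk (genericPoint X), w ≠ 0 ∧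
      ∀ x : X, Order.coheight x = 1 → ordOf (CohB1.tensorMod L N) x w = ordOf L x s + ordOf N x t := by
  have hT := InvX.isInvertible_tensorMod hL hN
  refine ⟨stalkTmul L N _ (s ⊗ₜ t), ?_, ?_⟩
  · intro h0
    obtain ⟨U, hU, e, f, he, hf⟩ := InvX.exists_frame₂ hL hN (genericPoint X)
    obtain ⟨φ, hφ⟩ := (rk1_of_isInvertible hL).exists_smul (frame_germ_ne_zero he hU) s
    obtain ⟨ψ, hψ⟩ := (rk1_of_isInvertible hN).exists_smul (frame_germ_ne_zero hf hU) t
    rw [← hφ, ← hψ, TensorProduct.smul_tmul_smul, map_smul, stalkTmul_germ] at h0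
    rcases smul_eq_zero.1 h0 with h | h
    · rcases mul_eq_zero.1 h with h | h
      · exact hs (by rw [← hφ, h, zero_smul])
      · exact ht (by rw [← hψ, h, zero_smul])
    · exact frame_germ_ne_zero (InvX.isFrame_tmul he hf) hU h
  · intro x hx
    obtain ⟨U, hU, e, f, he, hf⟩ := InvX.exists_frame₂ hL hN x
    have hη := gen_mem hU
    obtain ⟨φ, hφ⟩ := (rk1_of_isInvertible hL).exists_smul (frame_germ_ne_zero he hη) s
    obtain ⟨ψ, hψ⟩ := (rk1_of_isInvertible hN).exists_smul (frame_germ_ne_zero hf hη) t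
    have hφ0 : φ ≠ 0 := fun h => hs (by rw [← hφ, h, zero_smul])
    have hψ0 : ψ ≠ 0 := fun h => ht (by rw [← hψ, h, zero_smul])
    have hw : (φ * ψ) • (CohB1.tensorMod L N).presheaf.germ U (genericPoint X) hη (InvX.tmul e f) =
        stalkTmul L N _ (s ⊗ₜ t) := by
      rw [← hφ, ← hψ, TensorProduct.smul_tmul_smul, map_smul, stalkTmul_germ]
    rw [ordOf_frame hL he hU hx hs hφ, ordOf_frame hN hf hU hx ht hψ, ← Scheme.ord_mul hφ0 hψ0]
    refine ordOf_frame hT (InvX.isFrame_tmul he hf) hU hx ?_ hw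
    rw [← hw]
    exact smul_ne_zero (mul_ne_zero hφ0 hψ0) (frame_germ_ne_zero (InvX.isFrame_tmul he hf) hη)

end Groth.Agent.RefX2
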