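import Groth.Agent.RefX.Reflexive

/-!
# A stalkwise criterion for sequential colimits
-/

universe u

set_option backward.isDefEq.respectTransparency false
set_option backward.isDefEq.respectTransparency.types false
set_option linter.style.haveILetI false

open CategoryTheory CategoryTheory.Limits AlgebraicGeometry TopologicalSpace Opposite

namespace Groth.Agent.RefX2

variable {X : Scheme.{u}} {D : ℕ ⥤ X.Modules}

theorem app_injective_of_stalks {M N : X.Modules} (φ : M ⟶ N) {V : X.Opens}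
    (h : ∀ x ∈ V, Function.Injective (RefHull.stalkMapₗ φ x)) : Function.Injective (φ.app V) := fun a b e =>
  ZClosLib.section_ext M a b fun x (hx : x ∈ V) => h x hx (by rw [RefHull.stalkMapₗ_germ, RefHull.stalkMapₗ_germ, e])

theorem app_bijective_of_stalks {M N : X.Modules} (φ : M ⟶ N) {V : X.Opens}
    (h : ∀ x ∈ V, Function.Bijective (RefHull.stalkMapₗ φ x)) : Function.Bijective (φ.app V) := by
  refine ⟨app_injective_of_stalks φ fun x hx => (h x hx).1, fun r => ?_⟩
  have hloc : ∀ p : V, ∃ (W : X.Opens) (_ : p.1 ∈ W) (hW : W ≤ V) (m : Γ(M, W)),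
      φ.app W m = AModX.res N hW r := fun p => by
    obtain ⟨m, hm⟩ := (h p.1 p.2).2 (N.presheaf.germ V p.1 p.2 r)
    obtain ⟨W, hpW, m, rfl⟩ := TopCat.Presheaf.exists_germ_eq M.presheaf m
    rw [RefHull.stalkMapₗ_germ] at hm
    obtain ⟨W', hp', i, j, e⟩ := TopCat.Presheaf.germ_eq N.presheaf p.1 hpW p.2 _ _ hm
    exact ⟨W', hp', j.le, AModX.res M i.le m, (AModX.app_res φ i.le m).trans e⟩
  choose W hpW hW m hm using hloc
  obtain ⟨t, ht, -⟩ := AModX.existsUnique_glue (M := M) W hW (fun p hp => ⟨⟨p, hp⟩, hpW ⟨p, hp⟩⟩) m fun a b =>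
    app_injective_of_stalks φ (fun x (hx : x ∈ W a ⊓ W b) => (h x (hW a hx.1)).1)
      (by rw [AModX.app_res, AModX.app_res, hm, hm, AModX.res_res, AModX.res_res])
  exact ⟨t, AModX.eq_of_locally _ _ fun p hp =>
    ⟨W ⟨p, hp⟩, hW _, hpW _, by rw [← AModX.app_res, ht, hm]⟩⟩

/-- A leg of a cocone. -/
noncomputable def leg (c : Cocone D) (n : ℕ) : D.obj n ⟶ c.pt := c.ι.app n

theorem sect_map_map (c : Cocone D) {i k : ℕ} (h : i ≤ k) (V : X.Opens) (s : Γ(D.obj i, V)) :
    (leg c k).app V ((D.map (homOfLE h)).app V s) = (leg c i).app V s := by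
  have e : D.map (homOfLE h) ≫ leg c k = leg c i := c.w (homOfLE h)
  rw [← e, Scheme.Modules.Hom.comp_app, ConcreteCategory.comp_apply]

/-- A cocone with injective, jointly surjective stalk maps is a colimit cocone. -/
theorem nonempty_isColimit_of_stalks (c : Cocone D)
    (hinj : ∀ n (x : X), Function.Injective (RefHull.stalkMapₗ (leg c n) x))
    (hsurj : ∀ (x : X) (p : c.pt.presheaf.stalk x), ∃ n m, RefHull.stalkMapₗ (leg c n) x m = p) :
    Nonempty (IsColimit c) := by
  have hrep : ∀ (W : X.Opens) (r : Γ(c.pt, W)) (p : W),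
      ∃ (n : ℕ) (V : X.Opens) (_ : p.1 ∈ V) (hV : V ≤ W) (m : Γ(D.obj n, V)),
        (leg c n).app V m = AModX.res c.pt hV r := fun W r p => by
    obtain ⟨n, m, hm⟩ := hsurj p.1 (c.pt.presheaf.germ W p.1 p.2 r)
    obtain ⟨V, hpV, m, rfl⟩ := TopCat.Presheaf.exists_germ_eq (D.obj n).presheaf m
    rw [RefHull.stalkMapₗ_germ] at hm
    obtain ⟨V', hp', i, j, e⟩ := TopCat.Presheaf.germ_eq c.pt.presheaf p.1 hpV p.2 _ _ hm
    exact ⟨n, V', hp', j.le, AModX.res (D.obj n) i.le m, (AModX.app_res _ i.le m).trans e⟩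
  have key : ∀ (t : Cocone D) (W : X.Opens) {i k : ℕ} (m : Γ(D.obj i, W)) (m' : Γ(D.obj k, W)),
      (leg c i).app W m = (leg c k).app W m' → (leg t i).app W m = (leg t k).app W m' := by
    intro t W i k m m' h
    rw [← sect_map_map c (le_max_left i k), ← sect_map_map c (le_max_right i k)] at h
    rw [← sect_map_map t (le_max_left i k), ← sect_map_map t (le_max_right i k),
      app_injective_of_stalks _ (fun x _ => hinj _ x) h]
  have hdesc : ∀ (t : Cocone D) (W : X.Opens) (r : Γ(c.pt, W)), ∃! u : Γ(t.pt, W),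
      ∀ (n : ℕ) (V : X.Opens) (hV : V ≤ W) (m : Γ(D.obj n, V)), (leg c n).app V m = AModX.res c.pt hV r →
        AModX.res t.pt hV u = (leg t n).app V m := by
    intro t W r
    choose n V hpV hV m hm using hrep W r
    obtain ⟨u, hu, huni⟩ := AModX.existsUnique_glue (M := t.pt) V hV (fun p hp => ⟨⟨p, hp⟩, hpV ⟨p, hp⟩⟩)
      (fun p => (leg t (n p)).app (V p) (m p)) fun a b => by
        rw [← AModX.app_res, ← AModX.app_res]
        refine key t _ _ _ ?_
        rw [AModX.app_res, AModX.app_res, hm, hm, AModX.res_res, AModX.res_res]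
    refine ⟨u, fun k V' hV' m' hm' => AModX.eq_of_locally _ _ fun p hp => ?_, fun u' hu' => huni u' fun p => hu' _ _ _ _ (hm p)⟩
    refine ⟨V' ⊓ V ⟨p, hV' hp⟩, inf_le_left, ⟨hp, hpV _⟩, ?_⟩
    have h1 := congrArg (AModX.res t.pt (inf_le_right : V' ⊓ V ⟨p, hV' hp⟩ ≤ _)) (hu ⟨p, hV' hp⟩)
    rw [AModX.res_res, ← AModX.app_res] at h1
    rw [AModX.res_res, ← AModX.app_res, h1]
    exact key t _ _ _ (by rw [AModX.app_res, AModX.app_res, hm, hm', AModX.res_res, AModX.res_res])
  choose u hu huni using fun t W r => hdesc t W r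
  have hadd : ∀ (t : Cocone D) (W : X.Opens) (a b : Γ(c.pt, W)), u t W (a + b) = u t W a + u t W b := by
    intro t W a b
    refine AModX.eq_of_locally _ _ fun p hp => ?_
    obtain ⟨n, V, hpV, hV, ma, hma⟩ := hrep W a ⟨p, hp⟩
    obtain ⟨k, V', hpV', hV', mb, hmb⟩ := hrep W b ⟨p, hp⟩
    let E := V ⊓ V'
    have hE : E ≤ W := inf_le_left.trans hV
    let ma' := (D.map (homOfLE (le_max_left n k))).app E (AModX.res (D.obj n) (inf_le_left : E ≤ V) ma)
    let mb' := (D.map (homOfLE (le_max_right n k))).app E (AModX.res (D.obj k) (inf_le_right : E ≤ V') mb)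
    have h1 : (leg c (max n k)).app E ma' = AModX.res c.pt hE a := by
      rw [sect_map_map, AModX.app_res, hma, AModX.res_res]
    have h2 : (leg c (max n k)).app E mb' = AModX.res c.pt hE b := by
      rw [sect_map_map, AModX.app_res, hmb, AModX.res_res]
    refine ⟨E, hE, ⟨hpV, hpV'⟩, ?_⟩
    rw [hu t _ (a + b) _ E hE (ma' + mb') (by rw [map_add, map_add, h1, h2]), map_add, map_add,
      hu t _ a _ E hE ma' h1, hu t _ b _ E hE mb' h2]
  have hsmul : ∀ (t : Cocone D) (W : X.Opens) (a : Γ(X, W)) (r : Γ(c.pt, W)), u t W (a • r) = a • u t W r := by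
    intro t W a r
    refine AModX.eq_of_locally _ _ fun p hp => ?_
    obtain ⟨k, V', hpV', hV', mr, hmr⟩ := hrep W r ⟨p, hp⟩
    refine ⟨V', hV', hpV', ?_⟩
    rw [AModX.res_smul, hu t _ r k _ hV' mr hmr, ← Scheme.Modules.Hom.app_smul]
    exact hu t _ _ k _ hV' _ (by rw [Scheme.Modules.Hom.app_smul, hmr, AModX.res_smul])
  let desc : ∀ t : Cocone D, c.pt ⟶ t.pt := fun t =>
    { val := PresheafOfModules.homMk
        { app := fun W => AddCommGrpCat.ofHom (AddMonoidHom.mk' (u t W.unop) (hadd t W.unop))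
          naturality := fun V W i => by
            ext r
            refine ((huni t W.unop (AModX.res c.pt i.unop.le r)) _ fun n E hE m hm => ?_).symm
            refine (AModX.res_res i.unop.le hE (u t V.unop r)).trans ?_
            exact hu t _ r n E (hE.trans i.unop.le) m (hm.trans (AModX.res_res i.unop.le hE r)) }
        fun W a r => hsmul t W.unop (show Γ(X, W.unop) from a) (show Γ(c.pt, W.unop) from r) }
  refine ⟨{ desc := desc, fac := fun t n => ?_, uniq := fun t f hf => ?_ }⟩
  · refine Scheme.Modules.hom_ext _ _ fun W => ?_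
    ext m
    have := hu t W ((leg c n).app W m) n W le_rfl m (AModX.res_self _).symm
    rw [AModX.res_self] at this
    exact this
  · refine Scheme.Modules.hom_ext _ _ fun W => ?_
    ext r
    refine huni t W r _ fun n E hE m hm => ?_
    rw [← AModX.app_res, ← hm]
    rw [show leg t n = leg c n ≫ f from (hf n).symm]
    rfl

end Groth.Agent.RefX2
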