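import Groth.Agent.RefX2.PowGerm
import Groth.Agent.RefX2.SeqColim

/-!
# The colimit of the reflexive powers
-/

universe u

set_option backward.isDefEq.respectTransparency false
set_option backward.isDefEq.respectTransparency.types false
set_option linter.style.haveILetI false

open CategoryTheory CategoryTheory.Limits AlgebraicGeometry TopologicalSpace Opposite

namespace Groth.Agent.RefX2

variable {X : Scheme.{u}}

/-- The functor `j_* j^*`. -/
noncomputable abbrev pushRes (U : X.Opens) : X.Modules ⥤ X.Modules :=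
  Scheme.Modules.restrictFunctor U.ι ⋙ Scheme.Modules.pushforward U.ι

/-- The unit, on one module. -/
noncomputable def unitTo (U : X.Opens) (M : X.Modules) : M ⟶ (pushRes U).obj M :=
  (Scheme.Modules.restrictAdjunction U.ι).unit.app M

theorem unitTo_naturality (U : X.Opens) {M N : X.Modules} (f : M ⟶ N) :
    f ≫ unitTo U N = unitTo U M ≫ (pushRes U).map f :=
  (Scheme.Modules.restrictAdjunction U.ι).unit.naturality f

theorem unitTo_stalk_bijective (U : X.Opens) (M : X.Modules) {x : X} (hx : x ∈ U) :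
    Function.Bijective (RefHull.stalkMapₗ (unitTo U M) x) :=
  ZClosLib.stalkMap_unit_bijective U M hx

theorem stalkMapₗ_comp_apply {A B C : X.Modules} (φ : A ⟶ B) (ψ : B ⟶ C) (x : X) (v : A.presheaf.stalk x) :
    RefHull.stalkMapₗ (φ ≫ ψ) x v = RefHull.stalkMapₗ ψ x (RefHull.stalkMapₗ φ x v) :=
  ZClosLib.stalkMap_comp_apply φ ψ x v

theorem mem_img {U V : X.Opens} {y : X} (hy : y ∈ U) (hyV : y ∈ V) : y ∈ ZClosLib.img U V := by
  rw [ZClosLib.img, ZClos.ι_image_preimage]; exact ⟨hy, hyV⟩

/-- The germ of a section of `j_* j^* M` at a point of `U`. -/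
theorem germ_pushRes (U : X.Opens) (M : X.Modules) {V : X.Opens} (a : Γ((pushRes U).obj M, V)) {y : X}
    (hy : y ∈ U) (hyV : y ∈ V) :
    ((pushRes U).obj M).presheaf.germ V y hyV a =
      RefHull.stalkMapₗ (unitTo U M) y (M.presheaf.germ (ZClosLib.img U V) y (mem_img hy hyV) a) :=
  ((ZClosLib.stalkMap_germ (ZClosLib.unitApp U M) (mem_img hy hyV) (show Γ(M, ZClosLib.img U V) from a)).trans
    (ZClosLib.germ_res ((ZClos.resPush U).obj M) (U.ι.image_preimage_le V) (mem_img hy hyV) a)).symm

theorem isIso_pushRes_map (U : X.Opens) {M N : X.Modules} (φ : M ⟶ N)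
    (h : ∀ x ∈ U, Function.Bijective (RefHull.stalkMapₗ φ x)) : IsIso ((pushRes U).map φ) := by
  haveI : IsIso ((Scheme.Modules.restrictFunctor U.ι).map φ) := by
    refine Scheme.Modules.Hom.isIso_iff_isIso_app.2 fun V => (ConcreteCategory.isIso_iff_bijective _).2 ?_
    exact app_bijective_of_stalks φ (V := U.ι ''ᵁ V) fun x hx => h x (U.ι_image_le V hx)
  exact inferInstanceAs (IsIso ((Scheme.Modules.pushforward U.ι).map ((Scheme.Modules.restrictFunctor U.ι).map φ)))

section Integral

variable [IsIntegral X]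

theorem tf_pushRes_unit {U : X.Opens} (hη : genericPoint X ∈ U) : TF ((pushRes U).obj (Coh.structureModule X)) := by
  intro x
  refine (injective_iff_map_eq_zero _).2 fun m hm => ?_
  obtain ⟨V, hxV, a, rfl⟩ := TopCat.Presheaf.exists_germ_eq ((pushRes U).obj (Coh.structureModule X)).presheaf m
  rw [toGen_germ, germ_pushRes U _ a hη (gen_mem hxV)] at hm
  have h1 := (unitTo_stalk_bijective U _ hη).1 (hm.trans (map_zero _).symm)
  have h0 : a = 0 := (tf_of_isReflexiveAt QCoh.isQCoh_structureModule fun z => Module.equiv (RefX.unitStalk z)).section_ext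
    (W := ZClosLib.img U V) (s := a) (t := (0 : Γ(Coh.structureModule X, ZClosLib.img U V)))
    fun _ => h1.trans (map_zero _).symm
  rw [h0, map_zero]

variable [IsLocallyNoetherian X] {F : X.Modules} (s : Coh.structureModule X ⟶ F)

omit [IsIntegral X] [IsLocallyNoetherian X] in
theorem sPowGerm_one_eq (x : X) : RefPow.sPowGerm s 1 x = F.presheaf.germ ⊤ x trivial (SecTwist.val s ⊤) := by
  unfold RefPow.sPowGerm
  rw [RefPow.sPow_one]
  rfl

omit [IsIntegral X] [IsLocallyNoetherian X] in
theorem stalkMap_apply_smul_one {N : X.Modules} (φ : Coh.structureModule X ⟶ N) (x : X) (a : X.presheaf.stalk x) :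
    RefHull.stalkMapₗ φ x (RefX.unitStalk x a) = a • N.presheaf.germ ⊤ x trivial (SecTwist.val φ ⊤) := by
  show RefHull.stalkMapₗ φ x (a • _) = _
  rw [map_smul, RefHull.stalkMapₗ_germ]
  rfl

omit [IsIntegral X] [IsLocallyNoetherian X] in
theorem stalkMap_sPow (n : ℕ) (x : X) (a : X.presheaf.stalk x) :
    RefHull.stalkMapₗ (RefPow.sPow s n) x (RefX.unitStalk x a) = a • RefPow.sPowGerm s n x :=
  stalkMap_apply_smul_one (RefPow.sPow s n) x a

omit [IsLocallyNoetherian X] in
theorem toGen_sPowGerm (n : ℕ) (x : X) : toGen (RefPow.refPow F n) x (RefPow.sPowGerm s n x) = powGen s n :=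
  toGen_germ _ _ _

variable (hX : Pi1.IsNormalScheme X) (hF : RefHull.IsRef1 F)

include hF in
omit [IsLocallyNoetherian X] in
theorem eq_zero_of_powGen (h : powGen s 1 = 0) (hrefl : TF F) : s = 0 := by
  refine hrefl.hom_ext (LinearMap.ext fun v => ?_)
  obtain ⟨a, rfl⟩ := (RefX.unitStalk (genericPoint X)).surjective v
  rw [stalkMap_apply_smul_one, ← sPowGerm_one_eq, show RefPow.sPowGerm s 1 (genericPoint X) = powGen s 1 from rfl, h,
    smul_zero]
  symm
  rw [stalkMap_apply_smul_one, show SecTwist.val (0 : Coh.structureModule X ⟶ F) ⊤ = (0 : Γ(F, ⊤)) from rfl, map_zero,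
    smul_zero]

variable {U : X.Opens} (hU : (U : Set X) = RefPow.isoLocus s)

include hF hU in
theorem gen_mem_isoLocus (hs : powGen s 1 ≠ 0) : genericPoint X ∈ U := by
  show genericPoint X ∈ (U : Set X)
  rw [hU]
  have hb := bijective_generic (rk1_of_genInvertible hF.2.2) (g := powGen s 1) hs
  refine ⟨fun v w h => ?_, fun m => ?_⟩
  · obtain ⟨a, rfl⟩ := (RefX.unitStalk (genericPoint X)).surjective v
    obtain ⟨b, rfl⟩ := (RefX.unitStalk (genericPoint X)).surjective w
    rw [stalkMap_apply_smul_one, stalkMap_apply_smul_one, ← sPowGerm_one_eq] at h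
    exact congrArg _ (hb.1 h)
  · obtain ⟨a, rfl⟩ := hb.2 m
    refine ⟨RefX.unitStalk _ a, ?_⟩
    rw [stalkMap_apply_smul_one, ← sPowGerm_one_eq]
    rfl

include hU in
omit [IsLocallyNoetherian X] [IsIntegral X] in
theorem isUnit_or_mem {x : X} (hx : x ∈ U) :
    Function.Bijective fun a : X.presheaf.stalk x => a • F.presheaf.germ ⊤ x trivial (SecTwist.val s ⊤) := by
  have h : x ∈ RefPow.isoLocus s := hU ▸ (show x ∈ (U : Set X) from hx)
  have h2 : (fun a : X.presheaf.stalk x => a • F.presheaf.germ ⊤ x trivial (SecTwist.val s ⊤)) =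
      fun a => RefHull.stalkMapₗ s x (RefX.unitStalk x a) := funext fun a => (stalkMap_apply_smul_one s x a).symm
  rw [h2]
  exact ((RefPow.mem_isoLocus s x).1 h).comp (RefX.unitStalk x).bijective

include hX hF in
theorem ordOf_nonneg (hs : powGen s 1 ≠ 0) {y : X} (hy : Order.coheight y = 1) : 0 ≤ ordOf F y (powGen s 1) :=
  (mem_lat_iff hX hF.1 (tf_of_isRef1 hF) (rk1_of_genInvertible hF.2.2) hy hs).1 ⟨_, toGen_sPowGerm s 1 y⟩

include hX hF hU in
theorem one_le_ordOf (hs : powGen s 1 ≠ 0) {y : X} (hy : Order.coheight y = 1) (hyU : y ∉ U) :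
    1 ≤ ordOf F y (powGen s 1) := by
  by_contra h1
  have h0 := ordOf_nonneg s hX hF hs hy
  have hord : ordOf F y (powGen s 1) = 0 := by omega
  refine hyU ?_
  show y ∈ (U : Set X)
  rw [hU]
  have htf := tf_of_isRef1 hF
  have hsy : toGen F y (F.presheaf.germ ⊤ y trivial (SecTwist.val s ⊤)) = powGen s 1 := by
    rw [← sPowGerm_one_eq]; exact toGen_sPowGerm s 1 y
  obtain ⟨t, φ, ht, hφ0, ht0, hφ, hφord⟩ :=
    exists_coord hX hF.1 htf (rk1_of_genInvertible hF.2.2) hy hs
  obtain ⟨b, hb⟩ := CDiv6.reg_of_ord_nonneg hX hy (inv_ne_zero hφ0) (by rw [ord_inv hφ0]; omega)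
  have htb : t = b • F.presheaf.germ ⊤ y trivial (SecTwist.val s ⊤) := htf y (by
    rw [toGen_smul, hsy, ← hφ, hb, smul_smul, inv_mul_cancel₀ hφ0, one_smul])
  refine ⟨fun v w h => ?_, fun m => ?_⟩
  · obtain ⟨v, rfl⟩ := (RefX.unitStalk y).surjective v
    obtain ⟨w, rfl⟩ := (RefX.unitStalk y).surjective w
    rw [stalkMap_apply_smul_one, stalkMap_apply_smul_one] at h
    have h' := congrArg (toGen F y) h
    rw [toGen_smul, toGen_smul, hsy] at h'
    exact congrArg _ ((FaithfulSMul.algebraMap_injective (X.presheaf.stalk y) X.functionField)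
      (smul_left_injective X.functionField hs h'))
  · obtain ⟨a, rfl⟩ := Submodule.mem_span_singleton.1 (ht.ge (Submodule.mem_top : m ∈ ⊤))
    exact ⟨RefX.unitStalk y (a * b), by rw [stalkMap_apply_smul_one, mul_smul, htb]⟩

include hX hF hU in
theorem bijective_sPow (hs : powGen s 1 ≠ 0) (n : ℕ) {x : X} (hx : x ∈ U) :
    Function.Bijective (RefHull.stalkMapₗ (RefPow.sPow s n) x) := by
  have htf := tf_of_isRef1 (isRef1_refPow hF n)
  have hb : Function.Bijective fun a : X.presheaf.stalk x => a • RefPow.sPowGerm s n x := by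
    refine bijective_of_codim_one hX htf (rk1_of_genInvertible (isRef1_refPow hF n).2.2) (W := ⊤) trivial
      (powGen_ne_zero s hF hs n) fun y hy hy1 m => ?_
    have hyU : y ∈ U := hy.mem_open U.isOpen hx
    obtain ⟨t, φ, ht, hφ0, -, hφ, hord⟩ := exists_coord hX (isRef1_refPow hF n).1 htf
      (rk1_of_genInvertible (isRef1_refPow hF n).2.2) hy1 (powGen_ne_zero s hF hs n)
    have hzero : ordOf F y (powGen s 1) = 0 := by
      refine (ordOf_eq (tf_of_isRef1 hF) hy1 (t := F.presheaf.germ ⊤ y trivial (SecTwist.val s ⊤))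
        (eq_top_iff.2 fun w _ => Submodule.mem_span_singleton.2 ((isUnit_or_mem s hU hyU).2 w)) hs (φ := 1) ?_).trans
        (ord_one y)
      rw [one_smul, ← sPowGerm_one_eq]
      exact toGen_sPowGerm s 1 y
    obtain ⟨b, hb⟩ := CDiv6.reg_of_ord_nonneg hX hy1 (inv_ne_zero hφ0)
      (by rw [ord_inv hφ0, ← hord, ordOf_powGen s hF hs hX hy1, hzero]; simp)
    obtain ⟨a, rfl⟩ := Submodule.mem_span_singleton.1 (ht.ge (Submodule.mem_top : m ∈ ⊤))
    refine ⟨a * b, htf y ?_⟩
    show toGen _ y ((a * b) • RefPow.sPowGerm s n y) = _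
    rw [toGen_smul, toGen_sPowGerm, toGen_smul, map_mul, ← hφ, hb, mul_smul, smul_smul φ⁻¹, inv_mul_cancel₀ hφ0,
      one_smul]
  refine ⟨fun v w h => ?_, fun m => ?_⟩
  · obtain ⟨a, rfl⟩ := (RefX.unitStalk x).surjective v
    obtain ⟨b, rfl⟩ := (RefX.unitStalk x).surjective w
    rw [stalkMap_sPow, stalkMap_sPow] at h
    exact congrArg _ (hb.1 h)
  · obtain ⟨a, rfl⟩ := hb.2 m
    exact ⟨RefX.unitStalk x a, stalkMap_sPow s n x a⟩

include hX hF hU in
theorem main_of_ne_zero (hs : powGen s 1 ≠ 0) :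
    ∃ ι : RefPow.diagram F s ⟶ (Functor.const ℕ).obj ((pushRes U).obj (Coh.structureModule X)),
      ι.app 0 = unitTo U (Coh.structureModule X) ∧ Nonempty (IsColimit (Cocone.mk _ ι)) := by
  haveI : ∀ n, IsIso ((pushRes U).map (RefPow.sPow s n)) := fun n =>
    isIso_pushRes_map U _ fun x hx => bijective_sPow s hX hF hU hs n hx
  let l : ∀ n, RefPow.refPow F n ⟶ (pushRes U).obj (Coh.structureModule X) :=
    fun n => unitTo U (RefPow.refPow F n) ≫ inv ((pushRes U).map (RefPow.sPow s n))
  have hl : ∀ n, RefPow.mulBy s n ≫ l (n + 1) = l n := fun n => by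
    have e : (pushRes U).map (RefPow.mulBy s n) =
        inv ((pushRes U).map (RefPow.sPow s n)) ≫ (pushRes U).map (RefPow.sPow s (n + 1)) := by
      rw [IsIso.eq_inv_comp, ← Functor.map_comp]
      rfl
    show RefPow.mulBy s n ≫ unitTo U _ ≫ _ = _
    rw [← Category.assoc, unitTo_naturality, Category.assoc, e, Category.assoc, IsIso.hom_inv_id, Category.comp_id]
  let ι : RefPow.diagram F s ⟶ (Functor.const ℕ).obj ((pushRes U).obj (Coh.structureModule X)) :=
    NatTrans.ofSequence l fun n => by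
      rw [RefPow.diagram_map]
      simpa using hl n
  have h0 : l 0 = unitTo U (Coh.structureModule X) := by
    haveI : IsIso ((pushRes U).map (RefPow.sPow s 0)) := inferInstance
    show unitTo U (RefPow.refPow F 0) ≫ inv ((pushRes U).map (RefPow.sPow s 0)) = _
    have : inv ((pushRes U).map (RefPow.sPow s 0)) = 𝟙 _ := by
      refine IsIso.inv_eq_of_hom_inv_id ?_
      rw [RefPow.sPow_zero, CategoryTheory.Functor.map_id, Category.id_comp]
      rfl
    rw [this, Category.comp_id]
    rfl
  have hη := gen_mem_isoLocus s hF hU hs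
  have htP := tf_pushRes_unit (U := U) hη
  have hlbij : ∀ n, Function.Bijective (RefHull.stalkMapₗ (l n) (genericPoint X)) := fun n => by
    have h1 := unitTo_stalk_bijective U (RefPow.refPow F n) hη
    have h2 := stalkMap_iso_bijective (asIso (inv ((pushRes U).map (RefPow.sPow s n)))) (genericPoint X)
    have : ⇑(RefHull.stalkMapₗ (l n) (genericPoint X)) =
        (RefHull.stalkMapₗ (inv ((pushRes U).map (RefPow.sPow s n))) (genericPoint X)) ∘
          (RefHull.stalkMapₗ (unitTo U (RefPow.refPow F n)) (genericPoint X)) :=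
      funext fun v => stalkMapₗ_comp_apply _ _ _ v
    rw [this]
    exact h2.comp h1
  have hgen : ∀ n, RefHull.stalkMapₗ (l n) (genericPoint X) (powGen s n) =
      RefHull.stalkMapₗ (unitTo U (Coh.structureModule X)) (genericPoint X) (RefX.unitStalk (genericPoint X) (1 : X.functionField)) := by
    intro n
    induction n with
    | zero => rw [h0, powGen_zero]; rfl
    | succ n ih =>
      rw [← ih, ← hl n]
      refine Eq.trans ?_ (stalkMapₗ_comp_apply (RefPow.mulBy s n) (l (n + 1)) (genericPoint X) _).symm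
      exact congrArg (RefHull.stalkMapₗ (l (n + 1)) (genericPoint X)) (sPowGerm_succ_eq s n (genericPoint X))
  refine ⟨ι, h0, nonempty_isColimit_of_stalks (Cocone.mk _ ι) (fun n x a b h => ?_) fun x p => ?_⟩
  · refine tf_of_isRef1 (isRef1_refPow hF n) x ((hlbij n).1 ?_)
    have h' := congrArg (toGen _ x) h
    erw [← stalkMap_toGen, ← stalkMap_toGen] at h'
    exact h'
  · obtain ⟨V, hxV, a, rfl⟩ := TopCat.Presheaf.exists_germ_eq ((pushRes U).obj (Coh.structureModule X)).presheaf p
    have hηI : genericPoint X ∈ ZClosLib.img U V := mem_img hη (gen_mem hxV)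
    let c : X.functionField := (RefX.unitStalk (genericPoint X)).symm
      ((Coh.structureModule X).presheaf.germ (ZClosLib.img U V) (genericPoint X) hηI a)
    obtain ⟨U₁, hxU₁, hfin⟩ := ord_finite_nhd c x
    obtain ⟨N, hN⟩ := (hfin.image fun z => (-(Scheme.ord c z)).toNat).bddAbove
    obtain ⟨m, hm⟩ : c • powGen s N ∈ Lat (RefPow.refPow F N) x := by
      refine (hart_of_isReflexive hX (isRef1_refPow hF N).1 (isRef1_refPow hF N).2.1).2 x _ fun y hy hy1 => ?_
      by_cases hc : c = 0
      · rw [hc, zero_smul]; exact zero_mem_lat _ _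
      have hN' := isRef1_refPow hF N
      rw [mem_lat_iff hX hN'.1 (tf_of_isRef1 hN') (rk1_of_genInvertible hN'.2.2) hy1 (smul_ne_zero hc (powGen_ne_zero s hF hs N)),
        ordOf_smul hX hN'.1 (tf_of_isRef1 hN') (rk1_of_genInvertible hN'.2.2) hy1 (powGen_ne_zero s hF hs N) hc,
        ordOf_powGen s hF hs hX hy1]
      have h0' := mul_nonneg (Int.natCast_nonneg N) (ordOf_nonneg s hX hF hs hy1)
      by_cases hyU : y ∈ U
      · have hyI : y ∈ ZClosLib.img U V := mem_img hyU (hy.mem_open V.isOpen hxV)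
        obtain ⟨b, hb⟩ : CDiv6.Reg y c :=
          (unit_lat_iff y c).1 ⟨(Coh.structureModule X).presheaf.germ _ y hyI a, by
            rw [toGen_germ]; exact ((RefX.unitStalk (genericPoint X)).apply_symm_apply _).symm⟩
        have := CDiv6.reg_ord_nonneg hc ⟨b, hb⟩
        omega
      · have h1 := one_le_ordOf s hX hF hU hs hy1 hyU
        by_cases hneg : 0 ≤ Scheme.ord c y
        · omega
        have hle : (-(Scheme.ord c y)).toNat ≤ N :=
          hN ⟨y, ⟨hy.mem_open U₁.isOpen hxU₁, by omega⟩, rfl⟩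
        have h2 : (N : ℤ) * 1 ≤ (N : ℤ) * ordOf F y (powGen s 1) :=
          mul_le_mul_of_nonneg_left h1 (Int.natCast_nonneg N)
        omega
    refine ⟨N, m, htP x ?_⟩
    show toGen ((pushRes U).obj (Coh.structureModule X)) x (RefHull.stalkMapₗ (l N) x m) =
      toGen ((pushRes U).obj (Coh.structureModule X)) x
        (((pushRes U).obj (Coh.structureModule X)).presheaf.germ V x hxV a)
    refine (stalkMap_toGen (l N) x m).symm.trans ?_
    refine Eq.trans ?_ (toGen_germ ((pushRes U).obj (Coh.structureModule X)) hxV a).symm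
    refine Eq.trans ?_ (germ_pushRes U (Coh.structureModule X) a hη (gen_mem hxV)).symm
    rw [hm]
    show RefHull.stalkMapₗ (l N) (genericPoint X) (c • powGen s N) = _
    rw [map_smul, hgen N, ← map_smul (RefHull.stalkMapₗ (unitTo U (Coh.structureModule X)) (genericPoint X)),
      ← map_smul (RefX.unitStalk (genericPoint X)), smul_eq_mul, mul_one]
    exact congrArg _ ((RefX.unitStalk (genericPoint X)).apply_symm_apply _)

include hF hU in
theorem main_of_eq_zero (hs : powGen s 1 = 0) :
    ∃ ι : RefPow.diagram F s ⟶ (Functor.const ℕ).obj ((pushRes U).obj (Coh.structureModule X)),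
      ι.app 0 = unitTo U (Coh.structureModule X) ∧ Nonempty (IsColimit (Cocone.mk _ ι)) := by
  have hs0 := eq_zero_of_powGen s hF hs (tf_of_isRef1 hF)
  have hU0 : ∀ x, x ∉ U := fun x hx => by
    have := isUnit_or_mem s hU hx
    rw [hs0, show SecTwist.val (0 : Coh.structureModule X ⟶ F) ⊤ = (0 : Γ(F, ⊤)) from rfl, map_zero] at this
    exact zero_ne_one (this.1 (show (0 : X.presheaf.stalk x) • (0 : F.presheaf.stalk x) = 1 • 0 by
      rw [smul_zero, smul_zero]))
  have hP : ∀ (V : X.Opens) (a b : Γ((pushRes U).obj (Coh.structureModule X), V)), a = b := fun V a b =>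
    show (show Γ(Coh.structureModule X, ZClosLib.img U V) from a) = b from
      AModX.eq_of_locally _ _ fun p hp => absurd (U.ι_image_le _ hp) (hU0 p)
  have hz : ∀ {M : X.Modules} (f g : M ⟶ (pushRes U).obj (Coh.structureModule X)), f = g := fun f g =>
    Scheme.Modules.hom_ext _ _ fun V => by ext a; exact hP V _ _
  have hmul : ∀ n, RefPow.mulBy s n = 0 := by
    rintro (_ | n)
    · exact hs0
    · refine Scheme.Modules.hom_ext _ _ fun V => ?_
      ext t
      rw [RefPow.mulBy_succ_app, hs0,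
        show SecTwist.val (0 : Coh.structureModule X ⟶ F) V = (0 : Γ(F, V)) from rfl]
      erw [show SecTwist.tmul (RefPow.refPow F (n + 1)) F V t (0 : Γ(F, V)) = 0 from by
        unfold SecTwist.tmul
        rw [TensorProduct.tmul_zero, map_zero]]
      rw [map_zero]
      rfl
  let ι : RefPow.diagram F s ⟶ (Functor.const ℕ).obj ((pushRes U).obj (Coh.structureModule X)) :=
    { app := fun _ => 0, naturality := fun _ _ _ => by simp }
  refine ⟨ι, hz _ _, ⟨{ desc := fun _ => 0, fac := fun t n => ?_, uniq := fun t f _ => ?_ }⟩⟩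
  · show (0 : RefPow.refPow F n ⟶ _) ≫ 0 = _
    rw [Limits.zero_comp, ← t.w (homOfLE (Nat.le_succ n)), RefPow.diagram_map, hmul, Limits.zero_comp]
  · refine Scheme.Modules.hom_ext _ _ fun V => ?_
    ext a
    rw [hP V a 0, map_zero, map_zero]

end Integral

end Groth.Agent.RefX2
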