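import Groth.Agent.RefX2.Ord

/-!
# Rank one reflexive modules are determined by their divisors
-/

universe u

set_option backward.isDefEq.respectTransparency false
set_option backward.isDefEq.respectTransparency.types false
set_option linter.style.haveILetI false

open CategoryTheory AlgebraicGeometry TopologicalSpace Opposite

namespace Groth.Agent.RefX2

variable {X : Scheme.{u}}

theorem stalkMap_iso_bijective {F G : X.Modules} (e : F ≅ G) (x : X) :
    Function.Bijective (RefHull.stalkMapₗ e.hom x) := by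
  haveI : IsIso e.hom.mapPresheaf :=
    inferInstanceAs (IsIso ((Scheme.Modules.toPresheaf X).map e.hom))
  exact (ConcreteCategory.isIso_iff_bijective ((TopCat.Presheaf.stalkFunctor Ab x).map e.hom.mapPresheaf)).1 inferInstance

variable [IsIntegral X] [IsLocallyNoetherian X]

theorem tf_of_isRef1 {F : X.Modules} (hF : RefHull.IsRef1 F) : TF F := tf_of_isReflexive hF.1 hF.2.1

/-- The criterion in terms of orders. -/
theorem nonempty_iso_iff (hX : Pi1.IsNormalScheme X) {F G : X.Modules} (hF : RefHull.IsRef1 F)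
    (hG : RefHull.IsRef1 G) {s : F.presheaf.stalk (genericPoint X)} (hs : s ≠ 0)
    {t : G.presheaf.stalk (genericPoint X)} (ht : t ≠ 0) :
    Nonempty (F ≅ G) ↔
      ∃ f : X.functionField, f ≠ 0 ∧ ∀ x : X, Order.coheight x = 1 → ordOf F x s = ordOf G x t + Scheme.ord f x := by
  have hFt := tf_of_isRef1 hF
  have hGt := tf_of_isRef1 hG
  have hFr := rk1_of_genInvertible hF.2.2
  have hGr := rk1_of_genInvertible hG.2.2
  constructor
  · rintro ⟨e⟩
    have hb := stalkMap_iso_bijective e
    obtain ⟨f, hf⟩ := hGr.exists_smul ht (RefHull.stalkMapₗ e.hom (genericPoint X) s)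
    have hs' : RefHull.stalkMapₗ e.hom (genericPoint X) s ≠ 0 := fun h0 => hs ((hb _).1 (h0.trans (map_zero _).symm))
    have hf0 : f ≠ 0 := fun h0 => hs' (by rw [← hf, h0, zero_smul])
    refine ⟨f, hf0, fun x hx => ?_⟩
    rw [← ordOf_map hX hF.1 hFt hGt hFr hx e.hom (hb _).1 (hb x).2 hs, ← hf,
      ordOf_smul hX hG.1 hGt hGr hx ht hf0, add_comm]
  · rintro ⟨f, hf0, hf⟩
    have hft : f • t ≠ 0 := smul_ne_zero hf0 ht
    have hbij : ∀ {M : X.Modules} (_ : Rk1 M) {v : M.presheaf.stalk (genericPoint X)}, v ≠ 0 →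
        Function.Bijective (LinearMap.toSpanSingleton (X.presheaf.stalk (genericPoint X)) (M.presheaf.stalk (genericPoint X)) v) :=
      fun hr _ hv => ⟨fun a b h => smul_left_injective X.functionField hv h, fun w => hr.exists_smul hv w⟩
    let T := (LinearEquiv.ofBijective _ (hbij hFr hs)).symm.trans (LinearEquiv.ofBijective _ (hbij hGr hft))
    have hT : ∀ a : X.functionField, T (a • s) = a • (f • t) := fun a => by
      have h1 : (LinearEquiv.ofBijective _ (hbij hFr hs)).symm (a • s) = a := by
        rw [LinearEquiv.symm_apply_eq]; rfl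
      rw [LinearEquiv.trans_apply, h1]
      rfl
    obtain ⟨e, -⟩ := (hart_of_isReflexive hX hG.1 hG.2.1).exists_iso (hart_of_isReflexive hX hF.1 hF.2.1) T
      fun x hx v => by
        obtain ⟨a, rfl⟩ := hFr.exists_smul hs v
        rw [hT]
        rcases eq_or_ne a 0 with rfl | ha
        · rw [zero_smul, zero_smul]; exact iff_of_true (zero_mem_lat F x) (zero_mem_lat G x)
        rw [mem_lat_iff hX hF.1 hFt hFr hx (smul_ne_zero ha hs),
          mem_lat_iff hX hG.1 hGt hGr hx (smul_ne_zero ha hft), ordOf_smul hX hF.1 hFt hFr hx hs ha,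
          ordOf_smul hX hG.1 hGt hGr hx hft ha, ordOf_smul hX hG.1 hGt hGr hx ht hf0, hf x hx,
          add_comm (ordOf G x t)]
    exact ⟨e⟩

end Groth.Agent.RefX2
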