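import Groth.Agent.RefX2.IsoPush
import Groth.Agent.RefX.Ext
import Groth.Agent.RefX2.Iso
import Groth.Agent.AssLib.OpenRestrict
import Groth.Agent.QCoh.ExtendFT
import Groth.Agent.SheafHomX.Coherent

/-!
# Reflexive modules and open subschemes with small complement
-/

universe u

set_option backward.isDefEq.respectTransparency false
set_option backward.isDefEq.respectTransparency.types false
set_option linter.style.haveILetI false

open CategoryTheory AlgebraicGeometry TopologicalSpace Opposite

namespace Groth.Agent.RefX2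

/-- Reflexivity is invariant under semilinear bijections. -/
theorem isReflexive_of_semilinear {A B M N : Type u} [CommRing A] [CommRing B] [AddCommGroup M] [Module A M]
    [AddCommGroup N] [Module B N] (σ : A ≃+* B) (e : M ≃+ N) (he : ∀ (a : A) (m : M), e (a • m) = σ a • e m)
    [Module.IsReflexive B N] : Module.IsReflexive A M := by
  have he' : ∀ (b : B) (n : N), e.symm (b • n) = σ.symm b • e.symm n := fun b n => e.injective (by
    rw [e.apply_symm_apply, he, e.apply_symm_apply, σ.apply_symm_apply])
  let down : Module.Dual B N → Module.Dual A M := fun φ =>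
    { toFun := fun m => σ.symm (φ (e m))
      map_add' := fun _ _ => by simp
      map_smul' := fun a m => by simp [he] }
  let up : Module.Dual A M → Module.Dual B N := fun f =>
    { toFun := fun n => σ (f (e.symm n))
      map_add' := fun _ _ => by simp
      map_smul' := fun b n => by simp [he'] }
  have du : ∀ f, down (up f) = f := fun f => LinearMap.ext fun m => by
    show σ.symm (σ (f (e.symm (e m)))) = f m
    rw [σ.symm_apply_apply, e.symm_apply_apply]
  refine ⟨fun m m' h => e.injective ((Module.bijective_dual_eval B N).1 (LinearMap.ext fun φ => ?_)), fun ψ => ?_⟩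
  · have := congrArg σ (LinearMap.congr_fun h (down φ))
    simpa [down] using this
  · obtain ⟨n, hn⟩ := (Module.bijective_dual_eval B N).2
      { toFun := fun φ => σ (ψ (down φ))
        map_add' := fun φ φ' => by
          rw [show down (φ + φ') = down φ + down φ' from LinearMap.ext fun m => by simp [down], map_add, map_add]
        map_smul' := fun b φ => by
          rw [show down (b • φ) = σ.symm b • down φ from LinearMap.ext fun m => by simp [down], map_smul,
            RingHom.id_apply, smul_eq_mul, map_mul, σ.apply_symm_apply, smul_eq_mul] }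
    refine ⟨e.symm n, LinearMap.ext fun f => σ.injective ?_⟩
    have := LinearMap.congr_fun hn (up f)
    rw [Module.Dual.eval_apply]
    simpa [up, du f] using this

variable {X : Scheme.{u}} [IsLocallyNoetherian X]

/-- Coherent modules on opens extend. -/
theorem exists_coh_extension (U : X.Opens) {G : (U : Scheme.{u}).Modules} (hG : Coh.IsCoh G) :
    ∃ G' : X.Modules, Coh.IsCoh G' ∧ Nonempty (G'.restrict U.ι ≅ G) := by
  have hX : ∀ x : X, ∃ W : X.Opens, x ∈ W ∧ NoetherianSpace (W : Set X) := fun x => by
    obtain ⟨_, ⟨W, hW, rfl⟩, hxW, -⟩ :=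
      X.isBasis_affineOpens.exists_subset_of_mem_open (Set.mem_univ x) isOpen_univ
    have hW' : IsAffineOpen W := hW
    haveI := IsLocallyNoetherian.component_noetherian (X := X) ⟨W, hW'⟩
    haveI : IsAffine (W : Scheme.{u}) := hW'
    haveI : IsNoetherian (W : Scheme.{u}) := { }
    exact ⟨W, hxW, inferInstanceAs (NoetherianSpace (W : Scheme.{u}))⟩
  haveI := QCoh.quasiCompact_ι_of_noetherian hX U
  obtain ⟨G', h1, h2, h3⟩ := QCoh.exists_extension_abs (QCoh.extStep_noetherian hX U) G (QCoh.isCoh_iff.1 hG).1 hG.2
  exact ⟨G', ⟨h1, h2⟩, h3⟩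

variable [IsIntegral X]

theorem exists_reflexive_extension (U : X.Opens)
    (hU : ∀ x : X, x ∉ U → (2 : ℕ∞) ≤ LocCoh.depth (X.presheaf.stalk x) (X.presheaf.stalk x))
    {G : (U : Scheme.{u}).Modules} (hG : Coh.IsCoh G)
    (hr : ∀ x : (U : Scheme.{u}), Module.IsReflexive ((U : Scheme.{u}).presheaf.stalk x) (G.presheaf.stalk x)) :
    ∃ F : X.Modules, Coh.IsCoh F ∧ RefHull.IsReflexive F ∧
      Nonempty ((Scheme.Modules.pushforward U.ι).obj G ≅ F) := by
  obtain ⟨G', hG', ⟨i⟩⟩ := exists_coh_extension U hG
  haveI : IsIso ((pushRes U).map (RefHull.bidualMap G')) := isIso_pushRes_map U _ fun x hx => by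
    refine (RefX.stalkMap_bidual_bijective_iff hG' x).2 ?_
    obtain ⟨e, he⟩ := AssLib.exists_semilinear_restrict U.ι G' ⟨x, hx⟩
    haveI := hr ⟨x, hx⟩
    let l := (RefHull.stalkMapₗ i.hom ⟨x, hx⟩)
    haveI : Module.IsReflexive _ ((G'.restrict U.ι).presheaf.stalk ⟨x, hx⟩) :=
      Module.equiv (LinearEquiv.ofBijective l (stalkMap_iso_bijective i ⟨x, hx⟩)).symm
    exact isReflexive_of_semilinear (asIso (U.ι.stalkMap ⟨x, hx⟩)).commRingCatIsoToRingEquiv e.symm fun a m =>
      e.injective ((e.apply_symm_apply _).trans ((he a _).trans (congrArg (fun v : G'.presheaf.stalk x => a • v) (e.apply_symm_apply m))).symm)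
  haveI : IsIso (unitTo U (RefHull.ddual G')) :=
    RefX.isIso_unit_of_extendsAcross (RefX.extendsAcross_reflexive (isCoh_ddual hG') (isReflexive_ddual hG') hU)
  exact ⟨RefHull.ddual G', isCoh_ddual hG', isReflexive_ddual hG',
    ⟨(Scheme.Modules.pushforward U.ι).mapIso i.symm ≪≫ asIso ((pushRes U).map (RefHull.bidualMap G')) ≪≫
      (asIso (unitTo U (RefHull.ddual G'))).symm⟩⟩

end Groth.Agent.RefX2
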