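import Groth.Agent.RefX2.Iso
import Groth.Agent.KFlatLib.Scheme.TensorStalk
import Groth.Agent.KFlatLib.Scheme.QCohTensor
import Groth.Agent.QCoh.TensorSections

/-!
# Reflexive tensor products of rank one modules
-/

universe u

set_option backward.isDefEq.respectTransparency false
set_option backward.isDefEq.respectTransparency.types false
set_option linter.style.haveILetI false

open CategoryTheory AlgebraicGeometry TopologicalSpace Opposite MonoidalCategory
open scoped TensorProduct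

namespace Groth.Agent.RefX2

variable {X : Scheme.{u}}

/-- The tensor product of stalks maps onto the stalk of the tensor product. -/
noncomputable def stalkTmul (F G : X.Modules) (x : X) :
    (F.presheaf.stalk x : Type u) ⊗[X.presheaf.stalk x] (G.presheaf.stalk x : Type u) →ₗ[X.presheaf.stalk x]
      (CohB1.tensorMod F G).presheaf.stalk x :=
  (((KFlatLib.stalkP x).map (KFlatLib.unitShP (CohB1.toPMod F ⊗ CohB1.toPMod G))).hom).comp
    (KFlatLib.tensorStalkEquiv (CohB1.toPMod F) (CohB1.toPMod G)).toLinearMap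

theorem stalkTmul_bijective (F G : X.Modules) (x : X) : Function.Bijective (stalkTmul F G x) := by
  haveI := KFlatLib.isIso_stalk_unitShP (x := x) (CohB1.toPMod F ⊗ CohB1.toPMod G)
  exact (ConcreteCategory.bijective_of_isIso
    ((KFlatLib.stalkP x).map (KFlatLib.unitShP (CohB1.toPMod F ⊗ CohB1.toPMod G)))).comp
    (KFlatLib.tensorStalkEquiv (CohB1.toPMod F) (CohB1.toPMod G)).bijective

theorem stalkTmul_germ (F G : X.Modules) {x : X} {U : X.Opens} (hx : x ∈ U) (a : Γ(F, U)) (b : Γ(G, U)) :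
    stalkTmul F G x (F.presheaf.germ U x hx a ⊗ₜ G.presheaf.germ U x hx b) =
      (CohB1.tensorMod F G).presheaf.germ U x hx (InvX.tmul a b) := by
  refine Eq.trans (b := ((KFlatLib.stalkP x).map (KFlatLib.unitShP (CohB1.toPMod F ⊗ CohB1.toPMod G))).hom
    (KFlatLib.germP (CohB1.toPMod F ⊗ CohB1.toPMod G) U hx (KFlatLib.tm a b))) ?_ ?_
  · exact congrArg _ (KFlatLib.ofTensor_germ U hx a b)
  · exact KFlatLib.stalkModMap_germ _ U hx _

theorem stalkTmul_sp (F G : X.Modules) {x z : X} (h : z ⤳ x) (m : F.presheaf.stalk x) (n : G.presheaf.stalk x) :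
    sp (CohB1.tensorMod F G) h (stalkTmul F G x (m ⊗ₜ n)) = stalkTmul F G z (sp F h m ⊗ₜ sp G h n) := by
  obtain ⟨U, hU, a, rfl⟩ := TopCat.Presheaf.exists_germ_eq F.presheaf m
  obtain ⟨V, hV, b, rfl⟩ := TopCat.Presheaf.exists_germ_eq G.presheaf n
  have hx : x ∈ U ⊓ V := ⟨hU, hV⟩
  have ha : (F.presheaf.germ U x hU).hom a = F.presheaf.germ (U ⊓ V) x hx (AModX.res F inf_le_left a) :=
    (RefX.germ_res F inf_le_left hx a).symm
  have hb : (G.presheaf.germ V x hV).hom b = G.presheaf.germ (U ⊓ V) x hx (AModX.res G inf_le_right b) :=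
    (RefX.germ_res G inf_le_right hx b).symm
  erw [ha, hb]
  rw [stalkTmul_germ, sp_germ, sp_germ, sp_germ, stalkTmul_germ]

theorem isCoh_tensor [IsLocallyNoetherian X] {F G : X.Modules} (hF : Coh.IsCoh F) (hG : Coh.IsCoh G) :
    Coh.IsCoh (CohB1.tensorMod F G) := by
  refine QCoh.isCoh_iff.2 ⟨KFlatLib.isQCoh_tensor hF.1 hG.1, fun U => ?_⟩
  haveI := (QCoh.isCoh_iff.1 hF).2 U
  haveI := (QCoh.isCoh_iff.1 hG).2 U
  exact Module.Finite.of_surjective (QCoh.tmLin F G U.1) (QCoh.bijective_tmLin hF.1 hG.1 U.2).2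

variable [IsIntegral X]

/-- The tensor of two rational sections, in the reflexive hull. -/
noncomputable def refTmul (F G : X.Modules) (s : F.presheaf.stalk (genericPoint X))
    (t : G.presheaf.stalk (genericPoint X)) : (RefHull.ddual (CohB1.tensorMod F G)).presheaf.stalk (genericPoint X) :=
  RefHull.stalkMapₗ (RefHull.bidualMap (CohB1.tensorMod F G)) (genericPoint X)
    (stalkTmul F G (genericPoint X) (s ⊗ₜ t))

variable [IsLocallyNoetherian X] {F G : X.Modules}

theorem refTmul_ne_zero (hF : Coh.IsCoh F) (hG : Coh.IsCoh G) (hFr : Rk1 F) (hGr : Rk1 G)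
    {s : F.presheaf.stalk (genericPoint X)} (hs : s ≠ 0) {t : G.presheaf.stalk (genericPoint X)} (ht : t ≠ 0) :
    refTmul F G s t ≠ 0 := by
  intro h0
  have hb : ∀ {M : X.Modules} (_ : Rk1 M) {v : M.presheaf.stalk (genericPoint X)}, v ≠ 0 →
      Function.Bijective (LinearMap.toSpanSingleton (X.presheaf.stalk (genericPoint X)) (M.presheaf.stalk (genericPoint X)) v) :=
    fun hr _ hv => ⟨fun a b h => smul_left_injective X.functionField hv h, fun w => hr.exists_smul hv w⟩
  let α := (LinearEquiv.ofBijective _ (hb hFr hs)).symm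
  let β := (LinearEquiv.ofBijective _ (hb hGr ht)).symm
  have h1 : s ⊗ₜ[X.presheaf.stalk (genericPoint X)] t = 0 := (stalkTmul_bijective F G _).1
    (((bidual_bijective_generic (isCoh_tensor hF hG)).1 (h0.trans (map_zero _).symm)).trans (map_zero _).symm)
  have h2 := congrArg (fun z => TensorProduct.lid (X.presheaf.stalk (genericPoint X)) (X.presheaf.stalk (genericPoint X))
    (TensorProduct.map α.toLinearMap β.toLinearMap z)) h1
  have hα : α s = 1 := by rw [LinearEquiv.symm_apply_eq]; exact (one_smul (X.presheaf.stalk (genericPoint X)) s).symm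
  have hβ : β t = 1 := by rw [LinearEquiv.symm_apply_eq]; exact (one_smul (X.presheaf.stalk (genericPoint X)) t).symm
  simp [hα, hβ] at h2

theorem rk1_refTensor (hF : Coh.IsCoh F) (hG : Coh.IsCoh G) (hFr : Rk1 F) (hGr : Rk1 G) :
    Rk1 (RefHull.ddual (CohB1.tensorMod F G)) := by
  obtain ⟨s, hs, hss⟩ := id hFr
  obtain ⟨t, ht, htt⟩ := id hGr
  refine ⟨refTmul F G s t, refTmul_ne_zero hF hG hFr hGr hs ht, fun v => ?_⟩
  obtain ⟨w, rfl⟩ := (bidual_bijective_generic (isCoh_tensor hF hG)).2 v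
  obtain ⟨z, rfl⟩ := (stalkTmul_bijective F G _).2 w
  induction z using TensorProduct.induction_on with
  | zero => exact ⟨0, by rw [zero_smul, map_zero, map_zero]⟩
  | tmul a b =>
    obtain ⟨c, rfl⟩ := hss a
    obtain ⟨d, rfl⟩ := htt b
    refine ⟨c * d, ?_⟩
    rw [TensorProduct.smul_tmul_smul, map_smul, map_smul]
    rfl
  | add a b ha hb =>
    obtain ⟨c, hc⟩ := ha
    obtain ⟨d, hd⟩ := hb
    exact ⟨c + d, by rw [add_smul, hc, hd, map_add, map_add]⟩

theorem isRef1_refTensor (hF : RefHull.IsRef1 F) (hG : RefHull.IsRef1 G) :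
    RefHull.IsRef1 (RefHull.ddual (CohB1.tensorMod F G)) := by
  have hc := isCoh_ddual (isCoh_tensor hF.1 hG.1)
  have hr := isReflexive_ddual (isCoh_tensor hF.1 hG.1)
  exact ⟨hc, hr, genInvertible_of_rk1 hc (tf_of_isReflexive hc hr)
    (rk1_refTensor hF.1 hG.1 (rk1_of_genInvertible hF.2.2) (rk1_of_genInvertible hG.2.2))⟩

theorem ordOf_refTmul (hX : Pi1.IsNormalScheme X) (hF : RefHull.IsRef1 F) (hG : RefHull.IsRef1 G)
    {s : F.presheaf.stalk (genericPoint X)} (hs : s ≠ 0) {t : G.presheaf.stalk (genericPoint X)} (ht : t ≠ 0)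
    {x : X} (hx : Order.coheight x = 1) :
    ordOf (RefHull.ddual (CohB1.tensorMod F G)) x (refTmul F G s t) = ordOf F x s + ordOf G x t := by
  have hFr := rk1_of_genInvertible hF.2.2
  have hGr := rk1_of_genInvertible hG.2.2
  obtain ⟨a, φ, ha, hφ0, -, hφ, hsφ⟩ := exists_coord hX hF.1 (tf_of_isRef1 hF) hFr hx hs
  obtain ⟨b, ψ, hb, hψ0, -, hψ, htψ⟩ := exists_coord hX hG.1 (tf_of_isRef1 hG) hGr hx ht
  rw [hsφ, htψ, ← Scheme.ord_mul hφ0 hψ0]
  refine ordOf_eq (tf_of_isRef1 (isRef1_refTensor hF hG)) hx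
    (t := RefHull.stalkMapₗ (RefHull.bidualMap (CohB1.tensorMod F G)) x (stalkTmul F G x (a ⊗ₜ b)))
    (eq_top_iff.2 fun w _ => ?_) (refTmul_ne_zero hF.1 hG.1 hFr hGr hs ht) ?_
  · obtain ⟨v, rfl⟩ := bidual_surjective_codim_one hX (isCoh_tensor hF.1 hG.1) hx w
    obtain ⟨z, rfl⟩ := (stalkTmul_bijective F G x).2 v
    induction z using TensorProduct.induction_on with
    | zero => rw [map_zero, map_zero]; exact zero_mem _
    | tmul m n =>
      obtain ⟨c, rfl⟩ := Submodule.mem_span_singleton.1 (ha.ge (Submodule.mem_top : m ∈ ⊤))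
      obtain ⟨d, rfl⟩ := Submodule.mem_span_singleton.1 (hb.ge (Submodule.mem_top : n ∈ ⊤))
      rw [TensorProduct.smul_tmul_smul, map_smul, map_smul]
      exact Submodule.smul_mem _ _ (Submodule.mem_span_singleton_self _)
    | add u v hu hv => rw [map_add, map_add]; exact add_mem (hu trivial) (hv trivial)
  · unfold refTmul
    rw [← stalkMap_toGen, ← hφ, ← hψ, TensorProduct.smul_tmul_smul, map_smul, map_smul]
    congr 2
    exact stalkTmul_sp F G (gen_spec x) a b

end Groth.Agent.RefX2
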