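import Groth.Agent.RefX2.Iso
import Groth.Agent.RefX2.OrdFin
import Groth.Agent.CurveCohLib.Polar

/-!
# The module of a Weil divisor
-/

universe u

set_option backward.isDefEq.respectTransparency false
set_option backward.isDefEq.respectTransparency.types false
set_option linter.style.haveILetI false

open CategoryTheory AlgebraicGeometry TopologicalSpace Opposite

namespace Groth.Agent.RefX2

open Groth.Agent.CurveCohLib

variable {X : Scheme.{u}} [IsIntegral X] [IsLocallyNoetherian X]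

/-- The bound at one point. -/
def Ok (D : X → ℤ) (z : X) (c : X.functionField) : Prop :=
  Order.coheight z = 1 → c ≠ 0 → 0 ≤ Scheme.ord c z + D z

theorem ok_zero (D : X → ℤ) (z : X) : Ok D z 0 := fun _ h => absurd rfl h

theorem Ok.mul_reg {D : X → ℤ} {z : X} {c a : X.functionField} (hc : Ok D z c) (ha : Polar.InR z a) :
    Ok D z (a * c) := fun hz hne => by
  obtain ⟨ha0, hc0⟩ := mul_ne_zero_iff.1 hne
  have := hc hz hc0
  have := CDiv6.reg_ord_nonneg ha0 (show CDiv6.Reg z a from ha)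
  rw [Scheme.ord_mul ha0 hc0]
  omega

theorem Ok.add (hX : Pi1.IsNormalScheme X) {D : X → ℤ} {z : X} {c d : X.functionField} (hc : Ok D z c)
    (hd : Ok D z d) : Ok D z (c + d) := fun hz hne => by
  haveI := CDiv6.isDVR_of_coheight_one hX hz
  rcases eq_or_ne c 0 with rfl | hc0
  · rw [zero_add] at hne ⊢; exact hd hz hne
  rcases eq_or_ne d 0 with rfl | hd0
  · rw [add_zero] at hne ⊢; exact hc hz hne
  have := Scheme.ord_add (x := z) hne
  have := hc hz hc0
  have := hd hz hd0
  omega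

variable (hX : Pi1.IsNormalScheme X) (D : AlgebraicCycle X ℤ)

/-- Rational functions bounded by a divisor. -/
noncomputable def divSub : QCoh.SubMod (Polar.rat X) where
  mem W :=
    { carrier := {h | ∀ (z : X) (hz : z ∈ W), Ok D z (Polar.val hz h)}
      add_mem' := fun {a b} ha hb z hz => by rw [map_add]; exact (ha z hz).add hX (hb z hz)
      zero_mem' := fun z hz => by rw [map_zero]; exact ok_zero _ z
      smul_mem' := fun r h hh z hz => by
        rw [Polar.val_smul]
        exact (hh z hz).mul_reg (Polar.inR_gη hz r) }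
  map_mem {W V} i {h} hh := fun z hz => by
    rw [show (Polar.rat X).presheaf.map (homOfLE i).op h = AModX.res (Polar.rat X) i h from rfl,
      Polar.val_res i hz (i hz)]
    exact hh z (i hz)
  of_locally W h hh := fun z hz => by
    obtain ⟨V, i, hzV, hV⟩ := hh z hz
    have := hV z hzV
    rwa [show (Polar.rat X).presheaf.map (homOfLE i).op h = AModX.res (Polar.rat X) i h from rfl,
      Polar.val_res i hzV hz] at this

/-- The module of a divisor. -/
noncomputable abbrev divMod : X.Modules := (divSub hX D).toModules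

/-- The rational function of a section. -/
noncomputable def dv {W : X.Opens} {x : X} (hx : x ∈ W) (m : Γ(divMod hX D, W)) : X.functionField :=
  Polar.val hx ((divSub hX D).ι.app W m)

theorem dv_ok {W : X.Opens} {z : X} (hz : z ∈ W) (m : Γ(divMod hX D, W)) : Ok D z (dv hX D hz m) :=
  (divSub hX D).ι_app_mem W m z hz

theorem dv_res {W W' : X.Opens} (h : W' ≤ W) {x y : X} (hx : x ∈ W') (hy : y ∈ W) (m : Γ(divMod hX D, W)) :
    dv hX D hx (AModX.res (divMod hX D) h m) = dv hX D hy m := by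
  unfold dv; rw [AModX.app_res, Polar.val_res h hx hy]

theorem dv_eq {W : X.Opens} {x y : X} (hx : x ∈ W) (hy : y ∈ W) (m : Γ(divMod hX D, W)) :
    dv hX D hx m = dv hX D hy m := by
  rw [← dv_res hX D le_rfl hx hy m, AModX.res_self]

theorem dv_smul {W : X.Opens} {x : X} (hx : x ∈ W) (r : Γ(X, W)) (m : Γ(divMod hX D, W)) :
    dv hX D hx (r • m) = Polar.gη hx r * dv hX D hx m := by
  unfold dv; rw [Scheme.Modules.Hom.app_smul, Polar.val_smul]

theorem dv_zero {W : X.Opens} {x : X} (hx : x ∈ W) : dv hX D hx 0 = 0 := by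
  unfold dv; rw [map_zero, map_zero]

theorem ext_dv {W : X.Opens} {a b : Γ(divMod hX D, W)} (h : ∀ {x : X} (hx : x ∈ W), dv hX D hx a = dv hX D hx b) :
    a = b :=
  (divSub hX D).ι_app_injective W (Polar.ext_val fun hx => h hx)

theorem exists_dv (W : X.Opens) (c : X.functionField) (hc : ∀ z ∈ W, Ok D z c) :
    ∃ m : Γ(divMod hX D, W), ∀ {y : X} (hy : y ∈ W), dv hX D hy m = c := by
  by_cases hW : ∃ x, x ∈ W
  · obtain ⟨x, hx⟩ := hW
    obtain ⟨m, hm⟩ := (divSub hX D).exists_app_eq (s := Polar.cst hx c) fun z hz => by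
      rw [Polar.val_cst]; exact hc z hz
    exact ⟨m, fun {y} hy => by unfold dv; rw [hm, Polar.val_cst]⟩
  · exact ⟨0, fun {y} hy => absurd ⟨y, hy⟩ hW⟩

theorem isQCoh_divMod : Coh.IsQCoh (divMod hX D) := by
  refine QCoh.isQCoh_of_sections (fun V hV g s => ?_) fun V hV g t ht => ?_
  · by_cases hne : ∃ x, x ∈ X.basicOpen g
    swap
    · refine ⟨0, 0, ext_dv hX D fun {x} hx => absurd ⟨x, hx⟩ hne⟩
    obtain ⟨y, hy⟩ := hne
    let c := dv hX D hy s
    have hfin : {z : X | z ∈ V ∧ Order.coheight z = 1 ∧ z ∉ X.basicOpen g}.Finite := by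
      have hcover : (V : Set X) ⊆ ⋃ x : X, ((finite_codim_one_off hX (gen_mem hy) x).choose : Set X) :=
        fun z _ => Set.mem_iUnion.2 ⟨z, (finite_codim_one_off hX (gen_mem hy) z).choose_spec.1⟩
      obtain ⟨T, hT⟩ := hV.isCompact.elim_finite_subcover _
        (fun x => ((finite_codim_one_off hX (gen_mem hy) x).choose).isOpen) hcover
      refine (T.finite_toSet.biUnion fun x _ => (finite_codim_one_off hX (gen_mem hy) x).choose_spec.2).subset ?_
      rintro z ⟨hz, h1, h2⟩
      obtain ⟨x, hx, hzx⟩ := Set.mem_iUnion₂.1 (hT hz)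
      exact Set.mem_iUnion₂.2 ⟨x, hx, hzx, h1, h2⟩
    obtain ⟨N, hN⟩ := (hfin.image fun z => (-(Scheme.ord c z + D z)).toNat).bddAbove
    have hgne : Polar.gη (X.basicOpen_le g hy) g ≠ 0 :=
      ((X.mem_basicOpen g _ (gen_mem (X.basicOpen_le g hy))).1 (gen_mem hy)).ne_zero
    obtain ⟨t, ht⟩ := exists_dv hX D V (Polar.gη (X.basicOpen_le g hy) g ^ N * c) fun z hz => by
      by_cases hzg : z ∈ X.basicOpen g
      · refine Ok.mul_reg ?_ ((Polar.inR_gη (X.basicOpen_le g hzg) g).pow N)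
        show Ok D z (dv hX D hy s)
        rw [dv_eq hX D hy hzg]
        exact dv_ok hX D hzg s
      intro hz1 hne'
      obtain ⟨-, hc0⟩ := mul_ne_zero_iff.1 hne'
      have hnat : (-(Scheme.ord c z + D z)).toNat ≤ N := hN ⟨z, ⟨hz, hz1, hzg⟩, rfl⟩
      have he : algebraMap (X.presheaf.stalk z) X.functionField (X.presheaf.germ V z hz g) =
          Polar.gη (X.basicOpen_le g hy) g :=
        TopCat.Presheaf.germ_stalkSpecializes_apply X.presheaf hz _ g
      have h1 := one_le_ord_of_notMem_basicOpen hX hz hz1 g (he ▸ hgne) hzg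
      rw [he] at h1
      have hpow : ∀ m : ℕ, Scheme.ord (Polar.gη (X.basicOpen_le g hy) g ^ m) z =
          m * Scheme.ord (Polar.gη (X.basicOpen_le g hy) g) z := by
        intro m
        induction m with
        | zero => rw [pow_zero, ord_one]; simp
        | succ k ih => rw [pow_succ, Scheme.ord_mul (pow_ne_zero k hgne) hgne, ih]; push_cast; ring
      rw [Scheme.ord_mul (pow_ne_zero N hgne) hc0, hpow]
      have h2 : (N : ℤ) * 1 ≤ (N : ℤ) * Scheme.ord (Polar.gη (X.basicOpen_le g hy) g) z :=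
        mul_le_mul_of_nonneg_left h1 (Int.natCast_nonneg N)
      omega
    refine ⟨N, t, ext_dv hX D fun {x} hx => ?_⟩
    show dv hX D hx (AModX.res (divMod hX D) (X.basicOpen_le g) t) =
      dv hX D hx (AModX.resR (X.basicOpen_le g) g ^ N • s)
    rw [dv_res hX D (X.basicOpen_le g) hx (X.basicOpen_le g hy), ht, dv_smul, map_pow,
      Polar.gη_res (X.basicOpen_le g) hx (X.basicOpen_le g hy), dv_eq hX D hx hy]
  · by_cases hne : ∃ x, x ∈ X.basicOpen g
    · refine ⟨0, ext_dv hX D fun {x} hx => ?_⟩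
      obtain ⟨y, hy⟩ := hne
      rw [pow_zero, one_smul, dv_zero, dv_eq hX D hx (X.basicOpen_le g hy), ← dv_res hX D (X.basicOpen_le g) hy]
      rw [show AModX.res (divMod hX D) (X.basicOpen_le g) t = 0 from ht, dv_zero]
    · refine ⟨1, ?_⟩
      have hg : g = 0 := by
        by_contra h0
        have : (X.basicOpen g : Set X).Nonempty := by
          rw [Set.nonempty_iff_ne_empty]
          intro he
          exact h0 ((AlgebraicGeometry.basicOpen_eq_bot_iff g).1 (Opens.ext (he.trans Opens.coe_bot.symm)))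
        exact hne this
      rw [pow_one, hg, zero_smul]

theorem isCoh_divMod : Coh.IsCoh (divMod hX D) := by
  classical
  refine QCoh.isCoh_iff.2 ⟨isQCoh_divMod hX D, fun V => ?_⟩
  haveI : IsNoetherianRing Γ(X, V.1) := IsLocallyNoetherian.component_noetherian V
  by_cases hne : ∃ x, x ∈ V.1
  swap
  · haveI : Subsingleton Γ(divMod hX D, V.1) := ⟨fun a b => ext_dv hX D fun {x} hx => absurd ⟨x, hx⟩ hne⟩
    infer_instance
  obtain ⟨x₀, hx₀⟩ := hne
  haveI : Nonempty V.1 := ⟨⟨x₀, hx₀⟩⟩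
  have hfin : {z : X | z ∈ V.1 ∧ D z ≠ 0}.Finite := by
    obtain ⟨T, hT⟩ := V.2.isCompact.elim_finite_subcover (fun x => ((finite_nhd_of_cycle D x).choose : Set X))
      (fun x => ((finite_nhd_of_cycle D x).choose).isOpen)
      (fun z _ => Set.mem_iUnion.2 ⟨z, (finite_nhd_of_cycle D z).choose_spec.1⟩)
    refine (T.finite_toSet.biUnion fun x _ => (finite_nhd_of_cycle D x).choose_spec.2).subset ?_
    rintro z ⟨hz, h1⟩
    obtain ⟨x, hx, hzx⟩ := Set.mem_iUnion₂.1 (hT hz)
    exact Set.mem_iUnion₂.2 ⟨x, hx, hzx, h1⟩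
  have hb : ∀ z ∈ {z : X | z ∈ V.1 ∧ D z ≠ 0 ∧ Order.coheight z = 1},
      ∃ b : Γ(X, V.1), Polar.gη hx₀ b ≠ 0 ∧ 1 ≤ Scheme.ord (Polar.gη hx₀ b) z := by
    rintro z ⟨hz, -, hz1⟩
    obtain ⟨c, hc, hcz⟩ := exists_ord_eq_one hX hz1
    haveI := functionField_isFractionRing_of_isAffineOpen X V.1 V.2
    obtain ⟨a, b, hb, rfl⟩ := IsFractionRing.div_surjective (A := Γ(X, V.1)) c
    have hga : ∀ r : Γ(X, V.1), algebraMap Γ(X, V.1) X.functionField r = Polar.gη hx₀ r := fun r => rfl
    rw [hga, hga] at hc hcz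
    have hb0 : Polar.gη hx₀ b ≠ 0 := fun h => hc (by rw [h, div_zero])
    have ha0 : Polar.gη hx₀ a ≠ 0 := fun h => hc (by rw [h, zero_div])
    refine ⟨a, ha0, ?_⟩
    have hb1 : 0 ≤ Scheme.ord (Polar.gη hx₀ b) z := CDiv6.reg_ord_nonneg hb0 (show CDiv6.Reg z _ from by
      have h := Polar.inR_gη hz b
      rwa [show Polar.gη hz b = Polar.gη hx₀ b from by
        rw [← Polar.gη_res le_rfl hz hx₀ b, AModX.resR_self]] at h)
    rw [div_eq_mul_inv, Scheme.ord_mul ha0 (inv_ne_zero hb0), ord_inv hb0] at hcz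
    omega
  choose! b hb0 hb1 using hb
  let S : Finset X := (hfin.subset (fun z hz => ⟨hz.1, hz.2.1⟩) :
    {z : X | z ∈ V.1 ∧ D z ≠ 0 ∧ Order.coheight z = 1}.Finite).toFinset
  let d : Γ(X, V.1) := ∏ z ∈ S, b z ^ (D z).toNat
  have hmem : ∀ z ∈ S, z ∈ V.1 ∧ D z ≠ 0 ∧ Order.coheight z = 1 := fun z hz => by
    simpa [S] using hz
  have hd0 : Polar.gη hx₀ d ≠ 0 := by
    simp only [d, map_prod, map_pow]
    exact Finset.prod_ne_zero_iff.2 fun z hz => pow_ne_zero _ (hb0 z (hmem z hz))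
  have hord : ∀ z ∈ S, (D z : ℤ) ≤ Scheme.ord (Polar.gη hx₀ d) z := by
    intro z hz
    obtain ⟨hzV, -, hz1⟩ := hmem z hz
    have he : d = b z ^ (D z).toNat * ∏ w ∈ S.erase z, b w ^ (D w).toNat := (Finset.mul_prod_erase _ _ hz).symm
    have hpow : ∀ m : ℕ, (m : ℤ) ≤ Scheme.ord (Polar.gη hx₀ (b z) ^ m) z := by
      intro m
      induction m with
      | zero => rw [pow_zero, ord_one]; simp
      | succ k ih =>
        rw [pow_succ, Scheme.ord_mul (pow_ne_zero k (hb0 z (hmem z hz))) (hb0 z (hmem z hz))]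
        have := hb1 z (hmem z hz)
        push_cast
        omega
    have hne' : Polar.gη hx₀ (b z ^ (D z).toNat) ≠ 0 := by rw [map_pow]; exact pow_ne_zero _ (hb0 z (hmem z hz))
    rw [he, map_mul] at hd0 ⊢
    rw [Scheme.ord_mul hne' (right_ne_zero_of_mul hd0), map_pow]
    have h2 : 0 ≤ Scheme.ord (Polar.gη hx₀ (∏ w ∈ S.erase z, b w ^ (D w).toNat)) z :=
      CDiv6.reg_ord_nonneg (right_ne_zero_of_mul hd0) (show CDiv6.Reg z _ from by
        have h := Polar.inR_gη hzV (∏ w ∈ S.erase z, b w ^ (D w).toNat)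
        rwa [show Polar.gη hzV (∏ w ∈ S.erase z, b w ^ (D w).toNat) = Polar.gη hx₀ _ from by
          rw [← Polar.gη_res le_rfl hzV hx₀ _, AModX.resR_self]] at h)
    have := hpow (D z).toNat
    have := Int.self_le_toNat (D z)
    omega
  have hdreg : ∀ z ∈ V.1, Polar.InR z (Polar.gη hx₀ d) := fun z hz => by
    have h := Polar.inR_gη hz d
    rwa [show Polar.gη hz d = Polar.gη hx₀ d from by rw [← Polar.gη_res le_rfl hz hx₀ d, AModX.resR_self]] at h
  have hex : ∀ m : Γ(divMod hX D, V.1), ∃ r : Γ(X, V.1), Polar.gη hx₀ r = Polar.gη hx₀ d * dv hX D hx₀ m := by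
    intro m
    obtain ⟨r, hr⟩ := Polar.exists_of_forall_inR (W := V.1) (c := Polar.gη hx₀ d * dv hX D hx₀ m) fun z hz => by
      by_cases h0 : Polar.gη hx₀ d * dv hX D hx₀ m = 0
      · rw [h0]; exact Polar.inR_zero z
      refine CDiv6.reg_of_forall_ord_nonneg hX h0 fun y hy hy1 => ?_
      have hyV : y ∈ V.1 := hy.mem_open V.1.isOpen hz
      obtain ⟨-, hc0⟩ := mul_ne_zero_iff.1 h0
      have h1 := dv_ok hX D hyV m hy1 (by rwa [dv_eq hX D hyV hx₀])
      rw [dv_eq hX D hyV hx₀] at h1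
      have h2 : 0 ≤ Scheme.ord (Polar.gη hx₀ d) y := CDiv6.reg_ord_nonneg hd0 (hdreg y hyV)
      rw [Scheme.ord_mul hd0 hc0]
      by_cases hDy : D y = 0
      · omega
      have h3 := hord y (by simp [S, hyV, hDy, hy1])
      omega
    exact ⟨r, hr hx₀⟩
  choose r hr using hex
  let φ : Γ(divMod hX D, V.1) →ₗ[Γ(X, V.1)] Γ(X, V.1) :=
    { toFun := r
      map_add' := fun a b => Polar.gη_injective hx₀ (by
        rw [map_add, hr, hr, hr, ← mul_add]; unfold dv; rw [map_add, map_add])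
      map_smul' := fun c a => Polar.gη_injective hx₀ (by
        rw [RingHom.id_apply, smul_eq_mul, map_mul, hr, hr, dv_smul]; ring) }
  refine Module.Finite.of_injective φ fun a b hab => ext_dv hX D fun {x} hx => ?_
  rw [dv_eq hX D hx hx₀, dv_eq hX D hx hx₀]
  exact mul_left_cancel₀ hd0 ((hr a).symm.trans ((congrArg _ hab).trans (hr b)))

/-- The canonical rational section. -/
theorem exists_one : ∃ (W : X.Opens) (_ : genericPoint X ∈ W) (m : Γ(divMod hX D, W)),
    ∀ {y : X} (hy : y ∈ W), dv hX D hy m = 1 := by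
  obtain ⟨U, hU, hfin⟩ := finite_nhd_of_cycle D (genericPoint X)
  obtain ⟨W, hW, -, hPW⟩ := exists_nhd_avoid hU (fun z => D z ≠ 0 ∧ Order.coheight z = 1)
    (hfin.subset fun z hz => ⟨hz.1, hz.2.1⟩) fun z hz h => by
      have hze : z = genericPoint X := (gen_spec z).antisymm hz |>.symm.eq
      have h1 : Order.coheight (genericPoint X) = 0 :=
        Order.coheight_eq_zero.2 fun b _ => gen_spec b
      rw [hze, h1] at h
      exact zero_ne_one h.2
  obtain ⟨m, hm⟩ := exists_dv hX D W 1 fun z hz hz1 _ => by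
    have : D z = 0 := by
      by_contra h
      exact hPW z hz ⟨h, hz1⟩
    rw [ord_one, this, add_zero]
  exact ⟨W, hW, m, fun {y} hy => hm hy⟩

/-- The canonical element of the generic stalk. -/
noncomputable def one : (divMod hX D).presheaf.stalk (genericPoint X) :=
  (divMod hX D).presheaf.germ _ _ (exists_one hX D).choose_spec.choose (exists_one hX D).choose_spec.choose_spec.choose

theorem germ_eq_dv_smul {W : X.Opens} (hη : genericPoint X ∈ W) (m : Γ(divMod hX D, W)) :
    (divMod hX D).presheaf.germ W (genericPoint X) hη m = dv hX D hη m • one hX D := by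
  obtain ⟨_, ⟨V, hV, rfl⟩, hηV, -⟩ :=
    X.isBasis_affineOpens.exists_subset_of_mem_open (Set.mem_univ (genericPoint X)) isOpen_univ
  have hV' : IsAffineOpen V := hV
  haveI : Nonempty V := ⟨⟨_, hηV⟩⟩
  haveI := functionField_isFractionRing_of_isAffineOpen X V hV'
  obtain ⟨p, q, hq, hpq⟩ := IsFractionRing.div_surjective (A := Γ(X, V)) (dv hX D hη m)
  change Polar.gη hηV p / Polar.gη hηV q = _ at hpq
  have hq0 : Polar.gη hηV q ≠ 0 := IsFractionRing.to_map_ne_zero_of_mem_nonZeroDivisors (K := X.functionField) hq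
  let E := W ⊓ (exists_one hX D).choose ⊓ V
  have hE : genericPoint X ∈ E := ⟨⟨hη, (exists_one hX D).choose_spec.choose⟩, hηV⟩
  have key : AModX.resR (inf_le_right : E ≤ V) q • AModX.res (divMod hX D) (inf_le_left.trans inf_le_left : E ≤ W) m =
      AModX.resR (inf_le_right : E ≤ V) p • AModX.res (divMod hX D) (inf_le_left.trans inf_le_right : E ≤ (exists_one hX D).choose)
        (exists_one hX D).choose_spec.choose_spec.choose := by
    refine ext_dv hX D fun {x} hx => ?_
    rw [dv_smul, dv_smul, Polar.gη_res _ hx hηV, Polar.gη_res _ hx hηV, dv_res hX D _ hx hη,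
      dv_res hX D _ hx (exists_one hX D).choose_spec.choose,
      (exists_one hX D).choose_spec.choose_spec.choose_spec (exists_one hX D).choose_spec.choose, mul_one, ← hpq,
      mul_div_cancel₀ _ hq0]
  have h1 := congrArg ((divMod hX D).presheaf.germ E (genericPoint X) hE) key
  rw [QCoh.germ_smul', QCoh.germ_smul', RefX.germ_res, RefX.germ_res, RefX.germ_resR, RefX.germ_resR] at h1
  change Polar.gη hηV q • _ = Polar.gη hηV p • one hX D at h1
  rw [← hpq, div_eq_mul_inv, mul_comm, mul_smul, ← h1, smul_smul, inv_mul_cancel₀ hq0, one_smul]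

theorem one_ne_zero' : one hX D ≠ 0 := by
  intro h0
  obtain ⟨W, hW, i, i', he⟩ := TopCat.Presheaf.germ_eq (divMod hX D).presheaf (genericPoint X)
    (exists_one hX D).choose_spec.choose (exists_one hX D).choose_spec.choose _ 0 (h0.trans (map_zero _).symm)
  have h2 := congrArg (dv hX D hW) (he.trans (map_zero _))
  rw [dv_zero] at h2
  have h3 : dv hX D hW (AModX.res (divMod hX D) i.le (exists_one hX D).choose_spec.choose_spec.choose) = 1 := by
    rw [dv_res hX D i.le hW (i.le hW), (exists_one hX D).choose_spec.choose_spec.choose_spec (i.le hW)]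
  exact one_ne_zero (h3.symm.trans h2)

theorem rk1_divMod : Rk1 (divMod hX D) := by
  refine ⟨one hX D, one_ne_zero' hX D, fun v => ?_⟩
  obtain ⟨W, hW, m, rfl⟩ := TopCat.Presheaf.exists_germ_eq (divMod hX D).presheaf v
  exact ⟨_, (germ_eq_dv_smul hX D hW m).symm⟩

theorem tf_divMod : TF (divMod hX D) := by
  intro x
  refine (injective_iff_map_eq_zero _).2 fun w hw => ?_
  obtain ⟨W, hW, m, rfl⟩ := TopCat.Presheaf.exists_germ_eq (divMod hX D).presheaf w
  rw [toGen_germ, germ_eq_dv_smul] at hw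
  have h0 := (smul_eq_zero.1 hw).resolve_right (one_ne_zero' hX D)
  have : m = 0 := ext_dv hX D fun {y} hy => by rw [dv_zero, dv_eq hX D hy (gen_mem hW), h0]
  rw [this, map_zero]

theorem smul_one_mem_lat_iff {y : X} (hy : Order.coheight y = 1) (c : X.functionField) :
    c • one hX D ∈ Lat (divMod hX D) y ↔ Ok D y c := by
  constructor
  · rintro ⟨m, hm⟩
    obtain ⟨W, hW, n, rfl⟩ := TopCat.Presheaf.exists_germ_eq (divMod hX D).presheaf m
    rw [toGen_germ, germ_eq_dv_smul] at hm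
    rw [← smul_left_injective X.functionField (one_ne_zero' hX D) hm, dv_eq hX D (gen_mem hW) hW]
    exact dv_ok hX D hW n
  · intro hc
    obtain ⟨U₁, hU₁, hf₁⟩ := finite_nhd_of_cycle D y
    obtain ⟨U₂, hU₂, hf₂⟩ := ord_finite_nhd c y
    obtain ⟨W, hW, -, hP⟩ := exists_nhd_avoid (U := U₁ ⊓ U₂) ⟨hU₁, hU₂⟩ (fun z => ¬ Ok D z c)
      ((hf₁.union hf₂).subset fun z ⟨hz, hP⟩ => by
        by_cases h1 : D z = 0
        · refine Or.inr ⟨hz.2, fun h2 => hP fun _ _ => by rw [h1, h2, add_zero]⟩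
        · exact Or.inl ⟨hz.1, h1⟩)
      fun z hz h => h fun hz1 hne => by
        by_cases hzy : z = y
        · subst hzy; exact hc hy hne
        · have hlt : y < z := lt_of_le_not_ge hz fun h' => hzy (Specializes.antisymm hz h').eq
          have := Order.coheight_add_one_le hlt
          rw [hz1, hy] at this
          exact absurd this (by decide)
    obtain ⟨m, hm⟩ := exists_dv hX D W c fun z hz => not_not.1 (hP z hz)
    exact ⟨(divMod hX D).presheaf.germ W y hW m, by rw [toGen_germ, germ_eq_dv_smul, hm]⟩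

theorem hart_divMod : Hart (divMod hX D) := by
  refine ⟨tf_divMod hX D, fun x v hv => ?_⟩
  obtain ⟨c, rfl⟩ := (rk1_divMod hX D).exists_smul (one_ne_zero' hX D) v
  obtain ⟨U₁, hU₁, hf₁⟩ := finite_nhd_of_cycle D x
  obtain ⟨U₂, hU₂, hf₂⟩ := ord_finite_nhd c x
  obtain ⟨W, hW, -, hP⟩ := exists_nhd_avoid (U := U₁ ⊓ U₂) ⟨hU₁, hU₂⟩ (fun z => ¬ Ok D z c)
    ((hf₁.union hf₂).subset fun z ⟨hz, hP⟩ => by
      by_cases h1 : D z = 0
      · refine Or.inr ⟨hz.2, fun h2 => hP fun _ _ => by rw [h1, h2, add_zero]⟩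
      · exact Or.inl ⟨hz.1, h1⟩)
    fun z hz h => h fun hz1 hne => (smul_one_mem_lat_iff hX D hz1 c).1 (hv z hz hz1) hz1 hne
  obtain ⟨m, hm⟩ := exists_dv hX D W c fun z hz => not_not.1 (hP z hz)
  exact ⟨(divMod hX D).presheaf.germ W x hW m, by rw [toGen_germ, germ_eq_dv_smul, hm]⟩

theorem isRef1_divMod : RefHull.IsRef1 (divMod hX D) :=
  ⟨isCoh_divMod hX D, isReflexive_of_hart hX (isCoh_divMod hX D) (hart_divMod hX D),
    genInvertible_of_rk1 (isCoh_divMod hX D) (tf_divMod hX D) (rk1_divMod hX D)⟩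

theorem ordOf_one {x : X} (hx : Order.coheight x = 1) : ordOf (divMod hX D) x (one hX D) = D x := by
  have hc := isCoh_divMod hX D
  have key : ∀ c : X.functionField, c ≠ 0 →
      (0 ≤ Scheme.ord c x + ordOf (divMod hX D) x (one hX D) ↔ 0 ≤ Scheme.ord c x + D x) := fun c hc0 => by
    rw [← ordOf_smul hX hc (tf_divMod hX D) (rk1_divMod hX D) hx (one_ne_zero' hX D) hc0,
      ← mem_lat_iff hX hc (tf_divMod hX D) (rk1_divMod hX D) hx (smul_ne_zero hc0 (one_ne_zero' hX D)),
      smul_one_mem_lat_iff hX D hx]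
    exact ⟨fun h => h hx hc0, fun h _ _ => h⟩
  obtain ⟨a, ha, hax⟩ := exists_ord_eq hX hx (-(ordOf (divMod hX D) x (one hX D)))
  obtain ⟨b, hb, hbx⟩ := exists_ord_eq hX hx (-(D x))
  have h1 := (key a ha).1 (by omega)
  have h2 := (key b hb).2 (by omega)
  omega

end Groth.Agent.RefX2
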