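import Groth.Agent.RefX2.Rank
import Groth.Agent.RefX2.Codim

/-!
# Where a section generates a rank one module
-/

universe u

set_option backward.isDefEq.respectTransparency false
set_option backward.isDefEq.respectTransparency.types false
set_option linter.style.haveILetI false

open CategoryTheory AlgebraicGeometry TopologicalSpace Opposite

namespace Groth.Agent.RefX2

variable {X : Scheme.{u}} [IsIntegral X] {F : X.Modules}

theorem bijective_generic (hr : Rk1 F) {g : F.presheaf.stalk (genericPoint X)} (hg : g ≠ 0) :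
    Function.Bijective fun a : X.presheaf.stalk (genericPoint X) => a • g :=
  ⟨fun _ _ h => smul_left_injective X.functionField hg h, fun w => hr.exists_smul hg w⟩

theorem injective_smul_germ (hF : TF F) {x : X} {W : X.Opens} (hx : x ∈ W) {s : Γ(F, W)}
    (hs : F.presheaf.germ W (genericPoint X) (gen_mem hx) s ≠ 0) :
    Function.Injective fun a : X.presheaf.stalk x => a • F.presheaf.germ W x hx s := fun a b h => by
  refine sub_eq_zero.1 ((hF.noZeroSMul x (a - b) (F.presheaf.germ W x hx s) ?_).resolve_right fun h0 => hs ?_)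
  · rw [sub_smul]; exact sub_eq_zero.2 h
  · rw [← toGen_germ F hx, h0, map_zero]

variable [IsLocallyNoetherian X]

theorem bijective_of_codim_one (hX : Pi1.IsNormalScheme X) (hF : TF F) (hr : Rk1 F) {x : X} {W : X.Opens}
    (hx : x ∈ W) {s : Γ(F, W)} (hs : F.presheaf.germ W (genericPoint X) (gen_mem hx) s ≠ 0)
    (h : ∀ (y : X) (hy : y ⤳ x), Order.coheight y = 1 →
      Function.Surjective fun a : X.presheaf.stalk y => a • F.presheaf.germ W y (hy.mem_open W.isOpen hx) s) :
    Function.Bijective fun a : X.presheaf.stalk x => a • F.presheaf.germ W x hx s := by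
  refine ⟨injective_smul_germ hF hx hs, fun m => ?_⟩
  obtain ⟨c, hc⟩ := hr.exists_smul hs (toGen F x m)
  obtain ⟨a, ha⟩ : CDiv6.Reg x c := by
    by_cases h0 : c = 0
    · exact ⟨0, by rw [h0, map_zero]⟩
    refine CDiv6.reg_of_forall_ord_nonneg hX h0 fun y hy hy1 => CDiv6.reg_ord_nonneg h0 ?_
    obtain ⟨b, hb⟩ := h y hy hy1 (sp F hy m)
    refine ⟨b, smul_left_injective X.functionField hs ?_⟩
    show algebraMap _ X.functionField b • _ = c • _
    rw [hc, ← toGen_sp F hy m, ← hb, toGen_smul, toGen_germ]
  refine ⟨a, hF x ?_⟩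
  rw [toGen_smul, toGen_germ, ha, hc]

end Groth.Agent.RefX2
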