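import Groth.Agent.RefX2.SecDiv
import Groth.Agent.RefX2.IsoLocus
import Groth.Agent.RefX2.Iso
import Groth.Agent.CDiv6.Factorial
import Groth.Agent.InvX.Tensor

/-!
# Rank one reflexive modules on factorial schemes
-/

universe u

set_option backward.isDefEq.respectTransparency false
set_option backward.isDefEq.respectTransparency.types false
set_option linter.style.haveILetI false

open CategoryTheory AlgebraicGeometry TopologicalSpace Opposite

namespace Groth.Agent.RefX2

variable {X : Scheme.{u}} [IsIntegral X] [IsLocallyNoetherian X]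

/-- Every divisor is locally principal on a factorial scheme. -/
theorem exists_local_ord (hX : Pi1.IsNormalScheme X)
    (hU : ∀ x : X, UniqueFactorizationMonoid (X.presheaf.stalk x)) (x : X) (D : X → ℤ) (S : Finset X)
    (hS : ∀ y ∈ S, Order.coheight y = 1) :
    ∃ (W : X.Opens) (c : X.functionField), x ∈ W ∧ c ≠ 0 ∧
      ∀ y ∈ W, Order.coheight y = 1 → (y ∈ S → Scheme.ord c y = D y) ∧ (y ∉ S → Scheme.ord c y = 0) := by
  classical
  induction S using Finset.induction with
  | empty => exact ⟨⊤, 1, trivial, one_ne_zero, fun y _ _ => ⟨fun h => absurd h (Finset.notMem_empty y), fun _ => ord_one y⟩⟩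
  | @insert a S ha ih =>
    obtain ⟨W, c, hxW, hc, hW⟩ := ih fun y hy => hS y (Finset.mem_insert_of_mem hy)
    obtain ⟨U, f, hxU, hf⟩ := CDiv6.exists_local_equation hX hU a (hS a (Finset.mem_insert_self a S)) x
    have hf0 : (f : X.functionField) ≠ 0 := f.ne_zero
    have hz : ∀ (n : ℤ) (y : X), Scheme.ord ((f : X.functionField) ^ n) y = n * Scheme.ord (f : X.functionField) y := by
      intro n y
      induction n using Int.induction_on with
      | zero => rw [zpow_zero, ord_one, zero_mul]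
      | succ k ih => rw [zpow_add_one₀ hf0, Scheme.ord_mul (zpow_ne_zero _ hf0) hf0, ih]; ring
      | pred k ih => rw [zpow_sub_one₀ hf0, Scheme.ord_mul (zpow_ne_zero _ hf0) (inv_ne_zero hf0), ord_inv hf0, ih]; ring
    refine ⟨W ⊓ U, c * (f : X.functionField) ^ D a, ⟨hxW, hxU⟩, mul_ne_zero hc (zpow_ne_zero _ hf0),
      fun y hy hy1 => ?_⟩
    rw [Scheme.ord_mul hc (zpow_ne_zero _ hf0), hz]
    rcases eq_or_ne y a with rfl | hne
    · refine ⟨fun _ => ?_, fun h => absurd (Finset.mem_insert_self y S) h⟩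
      rw [(hf y hy.2 hy1).1 rfl, (hW y hy.1 hy1).2 ha, mul_one, zero_add]
    · rw [(hf y hy.2 hy1).2 hne, mul_zero, add_zero]
      exact ⟨fun h => (hW y hy.1 hy1).1 ((Finset.mem_insert.1 h).resolve_left hne),
        fun h => (hW y hy.1 hy1).2 fun h' => h (Finset.mem_insert_of_mem h')⟩

/-- Rank one reflexive modules are invertible on a factorial scheme. -/
theorem isInvertible_of_isRef1 (hX : Pi1.IsNormalScheme X)
    (hU : ∀ x : X, UniqueFactorizationMonoid (X.presheaf.stalk x)) {F : X.Modules} (hF : RefHull.IsRef1 F) :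
    PicF.IsInvertible F := by
  have htf := tf_of_isRef1 hF
  have hr := rk1_of_genInvertible hF.2.2
  have hH := hart_of_isReflexive hX hF.1 hF.2.1
  obtain ⟨s, hs, -⟩ := rk1_of_genInvertible hF.2.2
  obtain ⟨D, hD0, hD⟩ := exists_secDivisor hX hF.1 htf hr hs
  refine InvX.isInvertible_of_frames fun x => ?_
  obtain ⟨U, hxU, hfin⟩ := finite_nhd_of_cycle D x
  obtain ⟨W, c, hxW, hc, hW⟩ := exists_local_ord hX hU x (fun y => D y) hfin.toFinset fun y hy => by
    by_contra h
    exact ((hfin.mem_toFinset.1 hy).2) (hD0 y h)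
  have hv : c⁻¹ • s ≠ 0 := smul_ne_zero (inv_ne_zero hc) hs
  have hord : ∀ y ∈ W ⊓ U, Order.coheight y = 1 → ordOf F y (c⁻¹ • s) = 0 := fun y hy hy1 => by
    rw [ordOf_smul hX hF.1 htf hr hy1 hs (inv_ne_zero hc), ord_inv hc, ← hD y hy1]
    by_cases h : y ∈ hfin.toFinset
    · rw [(hW y hy.1 hy1).1 h]; omega
    · have h0 : D y = 0 := by_contra fun h' => h (hfin.mem_toFinset.2 ⟨hy.2, h'⟩)
      rw [(hW y hy.1 hy1).2 h, h0]; rfl
  obtain ⟨e, he⟩ := hH.exists_section (W := W ⊓ U) (v := c⁻¹ • s) fun y hy hy1 =>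
    (mem_lat_iff hX hF.1 htf hr hy1 hv).2 (hord y hy hy1).ge
  refine ⟨W ⊓ U, ⟨hxW, hxU⟩, e, InvX.isFrame_of_germ fun z hz => ?_⟩
  refine bijective_of_codim_one hX htf hr hz (by rw [he]; exact hv) fun y hy hy1 => ?_
  have hyW : y ∈ W ⊓ U := hy.mem_open (W ⊓ U).isOpen hz
  obtain ⟨t, φ, ht, hφ0, ht0, hφ, hφord⟩ := exists_coord hX hF.1 htf hr hy1 hv
  have h0 : Scheme.ord φ y = 0 := hφord.symm.trans (hord y hyW hy1)
  obtain ⟨b, hb⟩ := CDiv6.reg_of_ord_nonneg hX hy1 (inv_ne_zero hφ0) (by rw [ord_inv hφ0, h0]; rfl)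
  intro m
  obtain ⟨a, rfl⟩ := Submodule.mem_span_singleton.1 (ht.ge (Submodule.mem_top : m ∈ ⊤))
  refine ⟨a * b, htf y ?_⟩
  rw [toGen_smul, toGen_smul, toGen_germ, he, map_mul, hb, ← hφ, smul_smul, mul_assoc, inv_mul_cancel₀ hφ0, mul_one]

end Groth.Agent.RefX2
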