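import Groth.Agent.RefX2.Gen
import Groth.Agent.CAlgOdd.Reflexive
import Groth.Agent.CDiv6.Normal
import Mathlib.LinearAlgebra.FreeModule.PID

/-!
# Modules cut out by their lattices in codimension one
-/

universe u

set_option backward.isDefEq.respectTransparency false
set_option backward.isDefEq.respectTransparency.types false
set_option linter.style.haveILetI false

open CategoryTheory AlgebraicGeometry TopologicalSpace Opposite

namespace Groth.Agent.RefX2

variable {X : Scheme.{u}} [IsIntegral X]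

/-- Torsion free, and membership in a stalk is tested at codimension one generizations. -/
def Hart (M : X.Modules) : Prop :=
  TF M ∧ ∀ (x : X) (v : M.presheaf.stalk (genericPoint X)),
    (∀ y : X, y ⤳ x → Order.coheight y = 1 → v ∈ Lat M y) → v ∈ Lat M x

theorem unitStalk_sp (x : X) (a : X.presheaf.stalk x) :
    toGen (Coh.structureModule X) x (RefX.unitStalk x a) =
      RefX.unitStalk (genericPoint X) (algebraMap (X.presheaf.stalk x) X.functionField a) := by
  show toGen (Coh.structureModule X) x (a • _) = algebraMap (X.presheaf.stalk x) X.functionField a • _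
  rw [toGen_smul, toGen_germ]

theorem unit_lat_iff (x : X) (c : X.functionField) :
    RefX.unitStalk (genericPoint X) c ∈ Lat (Coh.structureModule X) x ↔ CDiv6.Reg x c := by
  constructor
  · rintro ⟨m, hm⟩
    refine ⟨(RefX.unitStalk x).symm m, (RefX.unitStalk (genericPoint X)).injective ?_⟩
    rw [← unitStalk_sp, LinearEquiv.apply_symm_apply, hm]
  · rintro ⟨a, rfl⟩
    exact ⟨_, unitStalk_sp x a⟩

theorem tf_of_isReflexiveAt {M : X.Modules} (hM : Coh.IsQCoh M) (h : ∀ x : X, RefHull.IsReflexiveAt M x) :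
    TF M := by
  refine tf_of_smul_eq_zero hM fun x a m ham => ?_
  haveI : Module.IsReflexive (X.presheaf.stalk x) (M.presheaf.stalk x) := h x
  refine or_iff_not_imp_left.2 fun ha => ?_
  refine (Module.bijective_dual_eval (X.presheaf.stalk x) _).1 (LinearMap.ext fun φ => ?_)
  rw [map_zero, LinearMap.zero_apply, Module.Dual.eval_apply]
  have := congrArg φ ham
  rw [map_smul, map_zero, smul_eq_mul] at this
  exact (mul_eq_zero.1 this).resolve_left ha

variable [IsLocallyNoetherian X]

theorem isReflexiveAt_dual {F : X.Modules} (hF : Coh.IsCoh F) (x : X) :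
    RefHull.IsReflexiveAt (RefHull.dual F) x := by
  have hfp := QCoh.isCoh_iff_isFP.1 hF
  haveI : Module.Finite (X.presheaf.stalk x) (F.presheaf.stalk x) :=
    QCoh.finite_stalk_of_isFT (QCoh.isCoh_iff.1 hF).1 (QCoh.isFT_of_isFP hfp) x
  haveI := CAlgOdd.Refl.isReflexive_dual (R := X.presheaf.stalk x) (F.presheaf.stalk x)
  exact Module.equiv (RefX.dualStalk hfp x).symm

theorem finite_stalk {F : X.Modules} (hF : Coh.IsCoh F) (x : X) :
    Module.Finite (X.presheaf.stalk x) (F.presheaf.stalk x) :=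
  QCoh.finite_stalk_of_isFT (QCoh.isCoh_iff.1 hF).1 (QCoh.isFT_of_isFP (QCoh.isCoh_iff_isFP.1 hF)) x

theorem isCoh_ddual {F : X.Modules} (hF : Coh.IsCoh F) : Coh.IsCoh (RefHull.ddual F) :=
  RefX.isCoh_dual (RefX.isCoh_dual hF)

theorem isReflexive_dual {F : X.Modules} (hF : Coh.IsCoh F) : RefHull.IsReflexive (RefHull.dual F) :=
  (RefX.isReflexive_iff (RefX.isCoh_dual hF)).2 (isReflexiveAt_dual hF)

theorem isReflexive_ddual {F : X.Modules} (hF : Coh.IsCoh F) : RefHull.IsReflexive (RefHull.ddual F) :=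
  isReflexive_dual (RefX.isCoh_dual hF)

theorem tf_of_isReflexive {F : X.Modules} (hF : Coh.IsCoh F) (hr : RefHull.IsReflexive F) : TF F :=
  tf_of_isReflexiveAt (QCoh.isCoh_iff.1 hF).1 fun x => (RefX.isReflexive_iff hF).1 hr x

/-- At a point of reflexivity the stalk is cut out by the codimension one stalks. -/
theorem mem_lat_of_isReflexiveAt (hX : Pi1.IsNormalScheme X) {F : X.Modules} (hF : Coh.IsCoh F)
    {x : X} (hx : RefHull.IsReflexiveAt F x) (v : F.presheaf.stalk (genericPoint X))
    (hv : ∀ y : X, y ⤳ x → Order.coheight y = 1 → v ∈ Lat F y) : v ∈ Lat F x := by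
  have hfp := QCoh.isCoh_iff_isFP.1 hF
  haveI : Module.IsReflexive (X.presheaf.stalk x) (F.presheaf.stalk x) := hx
  obtain ⟨c, hc, n, hn⟩ := exists_smul_mem_lat (QCoh.isCoh_iff.1 hF).1 x v
  have hcK : algebraMap (X.presheaf.stalk x) X.functionField c ≠ 0 :=
    (map_ne_zero_iff _ (FaithfulSMul.algebraMap_injective _ _)).2 hc
  have hphi : ∀ φ : Module.Dual (X.presheaf.stalk x) (F.presheaf.stalk x), ∃ a : X.presheaf.stalk x, c * a = φ n := by
    intro φ
    obtain ⟨θ, hθ⟩ := (RefX.dualStalk hfp x).surjective φ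
    let gη : F.presheaf.stalk (genericPoint X) →ₗ[X.functionField] X.functionField :=
      (RefX.unitStalk (genericPoint X)).symm.toLinearMap ∘ₗ
        RefHull.evalStalk F (Coh.structureModule X) (genericPoint X) (sp (RefHull.dual F) (gen_spec x) θ)
    have hreg : ∀ y : X, y ⤳ x → Order.coheight y = 1 → CDiv6.Reg y (gη v) := fun y hy hy1 => by
      rw [← unit_lat_iff]
      show RefX.unitStalk _ ((RefX.unitStalk _).symm _) ∈ _
      rw [LinearEquiv.apply_symm_apply]
      obtain ⟨m, rfl⟩ := hv y hy hy1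
      rw [← sp_sp (RefHull.dual F) (gen_spec y) hy θ]
      exact ⟨_, (evalStalk_sp (gen_spec y) (sp (RefHull.dual F) hy θ) m).symm⟩
    obtain ⟨a, ha⟩ : CDiv6.Reg x (gη v) := by
      by_cases h0 : gη v = 0
      · exact ⟨0, by rw [map_zero, h0]⟩
      · exact CDiv6.reg_of_forall_ord_nonneg hX h0 fun y hy hy1 =>
          CDiv6.reg_ord_nonneg h0 (hreg y hy hy1)
    refine ⟨a, FaithfulSMul.algebraMap_injective (X.presheaf.stalk x) X.functionField
      ((RefX.unitStalk (genericPoint X)).injective ?_)⟩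
    rw [map_mul, ← unitStalk_sp, ← hθ,
      show RefX.unitStalk x ((RefX.dualStalk hfp x θ) n) = RefHull.evalStalk F (Coh.structureModule X) x θ n from
        (RefX.unitStalk x).apply_symm_apply _]
    show _ = sp (Coh.structureModule X) (gen_spec x) _
    rw [← evalStalk_sp (gen_spec x) θ n, show sp F (gen_spec x) n = _ from hn, map_smul, ha, ← smul_eq_mul,
      map_smul]
    congr 1
    exact (RefX.unitStalk (genericPoint X)).apply_symm_apply _
  choose a ha using hphi
  let y : Module.Dual (X.presheaf.stalk x) (Module.Dual (X.presheaf.stalk x) (F.presheaf.stalk x)) :=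
    { toFun := a
      map_add' := fun φ ψ => mul_left_cancel₀ hc (by rw [mul_add, ha, ha, ha]; rfl)
      map_smul' := fun r φ => mul_left_cancel₀ hc (by
        rw [ha, RingHom.id_apply, smul_eq_mul, mul_left_comm, ha]; rfl) }
  obtain ⟨n', hn'⟩ := (Module.bijective_dual_eval (X.presheaf.stalk x) (F.presheaf.stalk x)).2 y
  have hcn : c • n' = n := (Module.bijective_dual_eval (X.presheaf.stalk x) (F.presheaf.stalk x)).1
    (LinearMap.ext fun φ => by
      rw [map_smul, LinearMap.smul_apply, hn', Module.Dual.eval_apply, smul_eq_mul]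
      exact ha φ)
  refine ⟨n', smul_right_injective _ hcK ?_⟩
  show algebraMap _ X.functionField c • toGen F x n' = algebraMap _ X.functionField c • v
  rw [← toGen_smul, hcn, hn]

/-- The key step: a reflexive module is the intersection of its codimension one stalks. -/
theorem hart_of_isReflexive (hX : Pi1.IsNormalScheme X) {F : X.Modules} (hF : Coh.IsCoh F)
    (hr : RefHull.IsReflexive F) : Hart F :=
  ⟨tf_of_isReflexive hF hr, fun _ v hv =>
    mem_lat_of_isReflexiveAt hX hF ((RefX.isReflexive_iff hF).1 hr _) v hv⟩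

section Sections

omit [IsLocallyNoetherian X]

variable {M : X.Modules}

/-- An element lying in all stalks over an open is a section. -/
theorem exists_section_of_forall_lat (hM : TF M) {W : X.Opens} {v : M.presheaf.stalk (genericPoint X)}
    (hv : ∀ x ∈ W, v ∈ Lat M x) :
    ∃ s : Γ(M, W), ∀ hη : genericPoint X ∈ W, M.presheaf.germ W (genericPoint X) hη s = v := by
  have h : ∀ p : W, ∃ (V : X.Opens) (_ : p.1 ∈ V) (_ : V ≤ W) (t : Γ(M, V)),
      ∀ hη : genericPoint X ∈ V, M.presheaf.germ V (genericPoint X) hη t = v := fun p => by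
    obtain ⟨m, hm⟩ := hv p.1 p.2
    obtain ⟨V, hpV, t, rfl⟩ := TopCat.Presheaf.exists_germ_eq M.presheaf m
    refine ⟨V ⊓ W, ⟨hpV, p.2⟩, inf_le_right, AModX.res M inf_le_left t, fun hη => ?_⟩
    rw [RefX.germ_res, ← hm, toGen_germ]
  choose V hpV hVW t ht using h
  obtain ⟨s, hs, -⟩ := AModX.existsUnique_glue (M := M) V hVW (fun p hp => ⟨⟨p, hp⟩, hpV ⟨p, hp⟩⟩) t
    fun a b => hM.section_ext fun hη => by rw [RefX.germ_res, RefX.germ_res, ht, ht]
  refine ⟨s, fun hη => ?_⟩
  have h1 := congrArg (M.presheaf.germ (V ⟨_, hη⟩) (genericPoint X) (hpV ⟨_, hη⟩)) (hs ⟨_, hη⟩)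
  rwa [RefX.germ_res, ht] at h1

theorem Hart.exists_section (hM : Hart M) {W : X.Opens} {v : M.presheaf.stalk (genericPoint X)}
    (hv : ∀ y ∈ W, Order.coheight y = 1 → v ∈ Lat M y) :
    ∃ s : Γ(M, W), ∀ hη : genericPoint X ∈ W, M.presheaf.germ W (genericPoint X) hη s = v :=
  exists_section_of_forall_lat hM.1 fun x hx => hM.2 x v fun y hy => hv y (hy.mem_open W.isOpen hx)

theorem germ_mem_lat {W : X.Opens} {y : X} (hy : y ∈ W) (hη : genericPoint X ∈ W) (s : Γ(M, W)) :
    M.presheaf.germ W (genericPoint X) hη s ∈ Lat M y :=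
  ⟨M.presheaf.germ W y hy s, toGen_germ M hy s⟩

variable {G : X.Modules}

/-- A map of generic stalks preserving the codimension one lattices is induced by a morphism. -/
theorem Hart.exists_hom (hM : Hart M)
    (T : G.presheaf.stalk (genericPoint X) →ₗ[X.presheaf.stalk (genericPoint X)] M.presheaf.stalk (genericPoint X))
    (hT : ∀ y : X, Order.coheight y = 1 → Set.MapsTo T (Lat G y) (Lat M y)) :
    ∃ ψ : G ⟶ M, RefHull.stalkMapₗ ψ (genericPoint X) = T := by
  have h : ∀ (W : X.Opens) (s : Γ(G, W)), ∃ σ : Γ(M, W), ∀ hη : genericPoint X ∈ W,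
      M.presheaf.germ W (genericPoint X) hη σ = T (G.presheaf.germ W (genericPoint X) hη s) := by
    intro W s
    by_cases hη : genericPoint X ∈ W
    · exact (hM.exists_section fun y hy hy1 => hT y hy1 (germ_mem_lat hy hη s))
    · exact ⟨0, fun h => absurd h hη⟩
  choose f hf using h
  let ψ : G ⟶ M :=
    { val := PresheafOfModules.homMk
        { app := fun W => AddCommGrpCat.ofHom (AddMonoidHom.mk' (f W.unop) fun a b => hM.1.section_ext fun hη => by
            rw [map_add, hf, hf, hf, map_add, map_add])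
          naturality := fun V W i => by
            ext s
            refine hM.1.section_ext fun hη => ?_
            show M.presheaf.germ W.unop _ hη (f W.unop (AModX.res G i.unop.le s)) =
              M.presheaf.germ W.unop _ hη (AModX.res M i.unop.le (f V.unop s))
            rw [RefX.germ_res, hf, hf, RefX.germ_res] }
        fun W r s => hM.1.section_ext (M := M) (W := W.unop) fun hη => by
          show M.presheaf.germ W.unop _ hη (f W.unop ((show Γ(X, W.unop) from r) • (show Γ(G, W.unop) from s))) =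
            M.presheaf.germ W.unop _ hη ((show Γ(X, W.unop) from r) • f W.unop s)
          rw [hf, QCoh.germ_smul', QCoh.germ_smul', map_smul, hf] }
  refine ⟨ψ, LinearMap.ext fun v => ?_⟩
  obtain ⟨W, hη, s, rfl⟩ := TopCat.Presheaf.exists_germ_eq G.presheaf v
  rw [RefHull.stalkMapₗ_germ]
  exact hf W s hη

/-- An equivalence of generic stalks matching the codimension one lattices gives an isomorphism. -/
theorem Hart.exists_iso (hM : Hart M) (hG : Hart G)
    (T : G.presheaf.stalk (genericPoint X) ≃ₗ[X.presheaf.stalk (genericPoint X)] M.presheaf.stalk (genericPoint X))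
    (hT : ∀ y : X, Order.coheight y = 1 → ∀ v, v ∈ Lat G y ↔ T v ∈ Lat M y) :
    ∃ e : G ≅ M, RefHull.stalkMapₗ e.hom (genericPoint X) = T.toLinearMap := by
  obtain ⟨ψ, hψ⟩ := hM.exists_hom (G := G) T.toLinearMap fun y hy v hv => (hT y hy v).1 hv
  obtain ⟨χ, hχ⟩ := hG.exists_hom (G := M) T.symm.toLinearMap fun y hy v hv =>
    (hT y hy (T.symm v)).2 (by rwa [T.apply_symm_apply])
  have key : ∀ {A : X.Modules} (φ : A ⟶ A) (v : A.presheaf.stalk (genericPoint X)),
      φ = 𝟙 A → RefHull.stalkMapₗ φ (genericPoint X) v = v := by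
    rintro A φ v rfl
    obtain ⟨U, hU, s, rfl⟩ := TopCat.Presheaf.exists_germ_eq A.presheaf v
    rw [RefHull.stalkMapₗ_germ]
    rfl
  refine ⟨⟨ψ, χ, hG.1.hom_ext ?_, hM.1.hom_ext ?_⟩, hψ⟩ <;>
  · refine LinearMap.ext fun v => ?_
    rw [key _ v rfl]
    obtain ⟨U, hU, s, rfl⟩ := TopCat.Presheaf.exists_germ_eq _ v
    rw [RefHull.stalkMapₗ_germ, Scheme.Modules.Hom.comp_app, ConcreteCategory.comp_apply,
      ← RefHull.stalkMapₗ_germ, ← RefHull.stalkMapₗ_germ, hψ, hχ]
    simp

/-- A morphism is determined by what it does at the generic point. -/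
theorem Hart.isIso (hM : Hart M) (hG : Hart G) (ψ : G ⟶ M)
    (hbij : Function.Bijective (RefHull.stalkMapₗ ψ (genericPoint X)))
    (hlat : ∀ y : X, Order.coheight y = 1 → Function.Surjective (RefHull.stalkMapₗ ψ y)) : IsIso ψ := by
  obtain ⟨e, he⟩ := hM.exists_iso hG (LinearEquiv.ofBijective _ hbij) fun y hy v => by
    refine ⟨fun hv => mapsTo_lat ψ y hv, ?_⟩
    rintro ⟨m, hm⟩
    obtain ⟨g, rfl⟩ := hlat y hy m
    exact ⟨g, hbij.1 ((stalkMap_toGen ψ y g).trans hm)⟩
  rw [show ψ = e.hom from hM.1.hom_ext (by rw [he]; rfl)]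
  infer_instance

end Sections

end Groth.Agent.RefX2
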