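import Groth.Agent.RefX2.IsoPush
import Groth.Agent.AssPtX.Basic
import Groth.Agent.CurveCohLib.Polar
import Mathlib.AlgebraicGeometry.Morphisms.Affine

/-!
# When the locus where a section generates is affine over the scheme
-/

universe u

set_option backward.isDefEq.respectTransparency false
set_option backward.isDefEq.respectTransparency.types false
set_option linter.style.haveILetI false

open CategoryTheory AlgebraicGeometry TopologicalSpace Opposite

namespace Groth.Agent.RefX2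

open Groth.Agent.CurveCohLib

variable {X : Scheme.{u}} [IsIntegral X] [IsLocallyNoetherian X] {F : X.Modules}
variable (s : Coh.structureModule X ⟶ F) (hX : Pi1.IsNormalScheme X) (hF : RefHull.IsRef1 F)
variable {U : X.Opens} (hU : (U : Set X) = RefPow.isoLocus s)

theorem gη_congr {W : X.Opens} {x y : X} (hx : x ∈ W) (hy : y ∈ W) (r : Γ(X, W)) :
    Polar.gη hx r = Polar.gη hy r := by rw [← Polar.gη_res le_rfl hx hy r, AModX.resR_self]

theorem algebraMap_germ_gη {W : X.Opens} {x : X} (hx : x ∈ W) (r : Γ(X, W)) :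
    algebraMap (X.presheaf.stalk x) X.functionField (X.presheaf.germ W x hx r) = Polar.gη hx r :=
  TopCat.Presheaf.germ_stalkSpecializes_apply X.presheaf hx _ r

include hX hF hU in
theorem reg_of_smul_mem_lat (hs : powGen s 1 ≠ 0) (n : ℕ) {y : X} (hy : y ∈ U) {c : X.functionField}
    (h : c • powGen s n ∈ Lat (RefPow.refPow F n) y) : Polar.InR y c := by
  obtain ⟨m, hm⟩ := h
  obtain ⟨v, rfl⟩ := (bijective_sPow s hX hF hU hs n hy).2 m
  obtain ⟨a, rfl⟩ := (RefX.unitStalk y).surjective v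
  rw [stalkMap_sPow, toGen_smul, toGen_sPowGerm] at hm
  exact ⟨a, smul_left_injective X.functionField (powGen_ne_zero s hF hs n) hm⟩

include hX hF hU in
theorem isAffineOpen_inf_of_cond (hs : powGen s 1 ≠ 0)
    (h : ∀ x : X, x ∉ U → ∃ n : ℕ, 0 < n ∧
      RefPow.sPowGerm s n x ∈ IsLocalRing.maximalIdeal (X.presheaf.stalk x) •
        (⊤ : Submodule (X.presheaf.stalk x) ((RefPow.refPow F n).presheaf.stalk x)))
    {V : X.Opens} (hV : IsAffineOpen V) : IsAffineOpen (U ⊓ V) := by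
  classical
  let ρ : Γ(X, V) →+* Γ(X, U ⊓ V) := AModX.resR inf_le_right
  refine isAffineOpen_of_isAffineOpen_basicOpen (U ⊓ V) (ρ '' {f | X.basicOpen f ≤ U}) ?_ ?_
  swap
  · rintro _ ⟨f, hf, rfl⟩
    show IsAffineOpen (X.basicOpen ((X.presheaf.map (homOfLE (inf_le_right : U ⊓ V ≤ V)).op) f))
    rw [Scheme.basicOpen_res, inf_of_le_right (le_inf hf (X.basicOpen_le f))]
    exact hV.basicOpen f
  by_contra hne
  obtain ⟨M, hM, hle⟩ := Ideal.exists_le_maximal _ hne
  haveI := hM.isPrime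
  obtain ⟨z, hz, hzq⟩ := QCoh.exists_point hV ⟨M.comap ρ, inferInstance⟩
  have hzU : z ∉ U := fun hzU => by
    obtain ⟨f, hf, hzf⟩ := hV.exists_basicOpen_le ⟨z, hzU⟩ hz
    refine (QCoh.mem_basicOpen_iff_notMem hV hz f).1 hzf ?_
    rw [hzq]
    exact hle (Ideal.subset_span ⟨f, hf, rfl⟩)
  obtain ⟨n, -, hn⟩ := h z hzU
  have hη : genericPoint X ∈ U := gen_mem_isoLocus s hF hU hs
  have hηUV : genericPoint X ∈ U ⊓ V := ⟨hη, gen_mem hz⟩
  have hc := isRef1_refPow hF n
  let P : (RefPow.refPow F n).presheaf.stalk z → Prop := fun v =>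
    ∃ σ : Γ(X, V), ρ σ ∉ M ∧ ∃ e ∈ M, Polar.gη hz σ • toGen (RefPow.refPow F n) z v = Polar.gη hηUV e • powGen s n
  have hP : P (RefPow.sPowGerm s n z) := by
    refine Submodule.smul_induction_on hn (fun a ha v _ => ?_) fun v w => ?_
    · letI := QCoh.stalkModule (RefPow.refPow F n) hz
      haveI := QCoh.isLocalizedModule_germLin hc.1.1 hV hz
      letI := QCoh.stalkAlg (X := X) hz
      haveI := QCoh.isLocalization_stalk' hV hz
      obtain ⟨⟨p, σ⟩, hpσ⟩ := IsLocalization.surj (hV.primeIdealOf ⟨z, hz⟩).asIdeal.primeCompl a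
      obtain ⟨⟨m, τ⟩, hmτ⟩ := IsLocalizedModule.surj (hV.primeIdealOf ⟨z, hz⟩).asIdeal.primeCompl
        (QCoh.germLin (RefPow.refPow F n) hz) v
      have hpq : ρ p ∈ M := by
        show p ∈ M.comap ρ
        rw [← show (hV.primeIdealOf ⟨z, hz⟩).asIdeal = M.comap ρ from congrArg PrimeSpectrum.asIdeal hzq]
        by_contra hp
        have hu : IsUnit (X.presheaf.germ V z hz p) :=
          (X.mem_basicOpen _ z hz).1 ((QCoh.mem_basicOpen_iff_notMem hV hz p).2 hp)
        rw [show X.presheaf.germ V z hz p = a * X.presheaf.germ V z hz σ.1 from hpσ.symm] at hu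
        exact ha (isUnit_of_mul_isUnit_left hu)
      obtain ⟨c, hc'⟩ := (rk1_of_genInvertible hc.2.2).exists_smul (powGen_ne_zero s hF hs n)
        ((RefPow.refPow F n).presheaf.germ V (genericPoint X) (gen_mem hz) m)
      obtain ⟨d, hd⟩ := Polar.exists_of_forall_inR (W := U ⊓ V) (c := c) fun y hy =>
        reg_of_smul_mem_lat s hX hF hU hs n hy.1 (hc' ▸ germ_mem_lat hy.2 (gen_mem hz) m)
      have hστ : σ.1 * τ.1 ∉ (hV.primeIdealOf ⟨z, hz⟩).asIdeal := (σ * τ).2
      refine ⟨σ.1 * τ.1, fun hm => hστ ?_, ρ p * d, M.mul_mem_right d hpq, ?_⟩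
      · exact (SetLike.ext_iff.1 (congrArg PrimeSpectrum.asIdeal hzq) _).2 hm
      · rw [map_mul, map_mul, Polar.gη_res (inf_le_right : U ⊓ V ≤ V) hηUV hz, hd hηUV, mul_smul _ c, hc',
          ← algebraMap_germ_gη hz σ.1, ← algebraMap_germ_gη hz τ.1, ← map_mul, ← toGen_smul, mul_smul,
          smul_comm (X.presheaf.germ V z hz τ.1) a v, smul_smul, mul_comm (X.presheaf.germ V z hz σ.1) a,
          show a * X.presheaf.germ V z hz σ.1 = X.presheaf.germ V z hz p from hpσ, toGen_smul,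
          algebraMap_germ_gη hz p,
          show X.presheaf.germ V z hz τ.1 • v = (RefPow.refPow F n).presheaf.germ V z hz m from hmτ, toGen_germ]
    · rintro ⟨σ, hσ, e, he, h1⟩ ⟨τ, hτ, e', he', h2⟩
      refine ⟨σ * τ, fun hm => ?_, ρ τ * e + ρ σ * e', M.add_mem (M.mul_mem_left _ he) (M.mul_mem_left _ he'), ?_⟩
      · rw [map_mul] at hm
        exact (hM.isPrime.mem_or_mem hm).elim hσ hτ
      · rw [map_add (toGen (RefPow.refPow F n) z), smul_add, map_add (Polar.gη hηUV), map_mul (Polar.gη hz),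
          map_mul (Polar.gη hηUV), map_mul (Polar.gη hηUV), Polar.gη_res (inf_le_right : U ⊓ V ≤ V) hηUV hz,
          Polar.gη_res (inf_le_right : U ⊓ V ≤ V) hηUV hz, add_smul, mul_smul (Polar.gη hz τ), mul_smul (Polar.gη hz σ) (Polar.gη hηUV e'), ← h1, ← h2,
          smul_smul (Polar.gη hz τ) (Polar.gη hz σ), smul_smul (Polar.gη hz σ) (Polar.gη hz τ), mul_comm (Polar.gη hz τ)]
  obtain ⟨σ, hσ, e, he, h1⟩ := hP
  rw [toGen_sPowGerm] at h1
  have h2 := smul_left_injective X.functionField (powGen_ne_zero s hF hs n) h1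
  refine hσ ?_
  rwa [show ρ σ = e from Polar.gη_injective hηUV (by rw [Polar.gη_res (inf_le_right : U ⊓ V ≤ V) hηUV hz]; exact h2)]

include hX hF hU in
theorem cond_of_isAffineHom (hs : powGen s 1 ≠ 0) [IsAffineHom U.ι] (x : X) (hx : x ∉ U) :
    ∃ n : ℕ, 0 < n ∧ RefPow.sPowGerm s n x ∈ IsLocalRing.maximalIdeal (X.presheaf.stalk x) •
      (⊤ : Submodule (X.presheaf.stalk x) ((RefPow.refPow F n).presheaf.stalk x)) := by
  classical
  obtain ⟨_, ⟨V, hV, rfl⟩, hxV, -⟩ :=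
    X.isBasis_affineOpens.exists_subset_of_mem_open (Set.mem_univ x) isOpen_univ
  have hV' : IsAffineOpen V := hV
  have hW : IsAffineOpen (U ⊓ V) := by
    have h1 := (hV'.preimage U.ι).image_of_isOpenImmersion U.ι
    rwa [Scheme.Hom.image_preimage_eq_opensRange_inf, Scheme.Opens.opensRange_ι] at h1
  have hη : genericPoint X ∈ U := gen_mem_isoLocus s hF hU hs
  have hηUV : genericPoint X ∈ U ⊓ V := ⟨hη, gen_mem hxV⟩
  let ρ : Γ(X, V) →+* Γ(X, U ⊓ V) := AModX.resR inf_le_right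
  let q := (hV'.primeIdealOf ⟨x, hxV⟩).asIdeal
  have htop : q.map ρ = ⊤ := by
    by_contra hne
    obtain ⟨M, hM, hle⟩ := Ideal.exists_le_maximal _ hne
    haveI := hM.isPrime
    obtain ⟨y, hy, hyM⟩ := QCoh.exists_point hW ⟨M, inferInstance⟩
    have hle' : (hV'.primeIdealOf ⟨x, hxV⟩).asIdeal ≤ (hV'.primeIdealOf ⟨y, hy.2⟩).asIdeal := by
      intro a ha
      by_contra hna
      have hu := (QCoh.mem_basicOpen_iff_notMem hV' hy.2 a).2 hna
      rw [X.mem_basicOpen _ y hy.2, ← RefX.germ_resR (inf_le_right : U ⊓ V ≤ V) hy a, ← X.mem_basicOpen,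
        QCoh.mem_basicOpen_iff_notMem hW hy, hyM] at hu
      exact hu (hle (Ideal.mem_map_of_mem ρ ha))
    exact hx (((AssPtX.primeIdealOf_le_iff hV' hxV hy.2).1 hle').mem_open U.isOpen hy.1)
  have key : ∀ r : Γ(X, U ⊓ V), ∃ N₀ : ℕ, ∀ N ≥ N₀, Polar.gη hηUV r • powGen s N ∈ Lat (RefPow.refPow F N) x := by
    intro r
    let c : X.functionField := Polar.gη hηUV r
    obtain ⟨U₁, hxU₁, hfin⟩ := ord_finite_nhd c x
    obtain ⟨N₀, hN₀⟩ := (hfin.image fun z => (-(Scheme.ord c z)).toNat).bddAbove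
    refine ⟨N₀, fun N hN => (hart_of_isReflexive hX (isRef1_refPow hF N).1 (isRef1_refPow hF N).2.1).2 x _
      fun y hy hy1 => ?_⟩
    by_cases hc : c = 0
    · show c • powGen s N ∈ _
      rw [hc, zero_smul]; exact zero_mem_lat _ _
    have hN' := isRef1_refPow hF N
    show c • powGen s N ∈ _
    rw [mem_lat_iff hX hN'.1 (tf_of_isRef1 hN') (rk1_of_genInvertible hN'.2.2) hy1
        (smul_ne_zero hc (powGen_ne_zero s hF hs N)),
      ordOf_smul hX hN'.1 (tf_of_isRef1 hN') (rk1_of_genInvertible hN'.2.2) hy1 (powGen_ne_zero s hF hs N) hc,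
      ordOf_powGen s hF hs hX hy1]
    have h0' := mul_nonneg (Int.natCast_nonneg N) (ordOf_nonneg s hX hF hs hy1)
    by_cases hyU : y ∈ U
    · have hyW : y ∈ U ⊓ V := ⟨hyU, hy.mem_open V.isOpen hxV⟩
      have hr : CDiv6.Reg y c := by
        have := Polar.inR_gη hyW r
        rwa [gη_congr hyW hηUV r] at this
      have := CDiv6.reg_ord_nonneg hc hr
      omega
    · have h1 := one_le_ordOf s hX hF hU hs hy1 hyU
      by_cases hneg : 0 ≤ Scheme.ord c y
      · omega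
      have hle : (-(Scheme.ord c y)).toNat ≤ N₀ :=
        hN₀ ⟨y, ⟨hy.mem_open U₁.isOpen hxU₁, by omega⟩, rfl⟩
      have h2 : (N : ℤ) * 1 ≤ (N : ℤ) * ordOf F y (powGen s 1) :=
        mul_le_mul_of_nonneg_left h1 (Int.natCast_nonneg N)
      omega
  let P : Γ(X, U ⊓ V) → Prop := fun r => ∃ N₀ : ℕ, ∀ N ≥ N₀, ∃ m ∈ IsLocalRing.maximalIdeal (X.presheaf.stalk x) •
      (⊤ : Submodule (X.presheaf.stalk x) ((RefPow.refPow F N).presheaf.stalk x)),
      toGen (RefPow.refPow F N) x m = Polar.gη hηUV r • powGen s N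
  have h1 : (1 : Γ(X, U ⊓ V)) ∈ Submodule.span Γ(X, U ⊓ V) (ρ '' (q : Set Γ(X, V))) := by
    show (1 : Γ(X, U ⊓ V)) ∈ q.map ρ
    rw [htop]
    exact Submodule.mem_top
  have hP : ∀ e, e ∈ Submodule.span Γ(X, U ⊓ V) (ρ '' (q : Set Γ(X, V))) → ∀ r, P (r * e) := by
    intro e he
    induction he using Submodule.span_induction with
    | mem w hw =>
      obtain ⟨a, ha, rfl⟩ := hw
      intro r
      obtain ⟨N₀, hN₀⟩ := key r
      refine ⟨N₀, fun N hN => ?_⟩
      obtain ⟨m, hm⟩ := hN₀ N hN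
      refine ⟨X.presheaf.germ V x hxV a • m, Submodule.smul_mem_smul ?_ Submodule.mem_top, ?_⟩
      · exact fun hu => (QCoh.mem_basicOpen_iff_notMem hV' hxV a).1 ((X.mem_basicOpen _ x hxV).2 hu) ha
      · rw [toGen_smul, hm, algebraMap_germ_gη, map_mul, Polar.gη_res (inf_le_right : U ⊓ V ≤ V) hηUV hxV, smul_smul,
          mul_comm]
    | zero => exact fun r => ⟨0, fun N _ => ⟨0, zero_mem _, by rw [map_zero, mul_zero, map_zero, zero_smul]⟩⟩
    | add a b _ _ ha hb =>
      intro r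
      obtain ⟨N₁, h₁⟩ := ha r
      obtain ⟨N₂, h₂⟩ := hb r
      refine ⟨max N₁ N₂, fun N hN => ?_⟩
      obtain ⟨m, hm, hm'⟩ := h₁ N (le_of_max_le_left hN)
      obtain ⟨m', hm₂, hm₂'⟩ := h₂ N (le_of_max_le_right hN)
      exact ⟨m + m', add_mem hm hm₂, by rw [map_add, hm', hm₂', mul_add, map_add, add_smul]⟩
    | smul c a _ ha =>
      intro r
      rw [smul_eq_mul, ← mul_assoc]
      exact ha _
  obtain ⟨N₀, hN⟩ := hP 1 h1 1
  obtain ⟨m, hm, hm'⟩ := hN (max N₀ 1) (le_max_left _ _)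
  refine ⟨max N₀ 1, by omega, ?_⟩
  rw [mul_one, map_one, one_smul, ← toGen_sPowGerm s (max N₀ 1) x] at hm'
  rwa [← tf_of_isRef1 (isRef1_refPow hF _) x hm']

include hX hF hU in
theorem isAffineHom_iff :
    IsAffineHom U.ι ↔
      ∀ x : X, x ∉ U → ∃ n : ℕ, 0 < n ∧
        RefPow.sPowGerm s n x ∈ IsLocalRing.maximalIdeal (X.presheaf.stalk x) •
          (⊤ : Submodule (X.presheaf.stalk x) ((RefPow.refPow F n).presheaf.stalk x)) := by
  by_cases hs : powGen s 1 = 0
  · have hs0 := eq_zero_of_powGen s hF hs (tf_of_isRef1 hF)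
    have hU0 : U = ⊥ := by
      refine eq_bot_iff.2 fun x hx => ?_
      have := isUnit_or_mem s hU hx
      rw [hs0, show SecTwist.val (0 : Coh.structureModule X ⟶ F) ⊤ = (0 : Γ(F, ⊤)) from rfl, map_zero] at this
      exact absurd (this.1 (show (0 : X.presheaf.stalk x) • (0 : F.presheaf.stalk x) = 1 • 0 by
        rw [smul_zero, smul_zero])) zero_ne_one
    refine ⟨fun _ x _ => ⟨1, one_pos, ?_⟩, fun _ => ?_⟩
    · rw [sPowGerm_one_eq, hs0, show SecTwist.val (0 : Coh.structureModule X ⟶ F) ⊤ = (0 : Γ(F, ⊤)) from rfl, map_zero]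
      exact zero_mem _
    · refine isAffineHom_of_forall_exists_isAffineOpen _ fun x => ?_
      obtain ⟨_, ⟨V, hV, rfl⟩, hxV, -⟩ :=
        X.isBasis_affineOpens.exists_subset_of_mem_open (Set.mem_univ x) isOpen_univ
      refine ⟨V, hxV, hV, (U.ι.isAffineOpen_iff_of_isOpenImmersion).1 ?_⟩
      rw [Scheme.Hom.image_preimage_eq_opensRange_inf, Scheme.Opens.opensRange_ι, hU0, bot_inf_eq]
      exact isAffineOpen_bot X
  · refine ⟨fun h x hx => cond_of_isAffineHom s hX hF hU hs x hx, fun h => ?_⟩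
    refine isAffineHom_of_forall_exists_isAffineOpen _ fun x => ?_
    obtain ⟨_, ⟨V, hV, rfl⟩, hxV, -⟩ :=
      X.isBasis_affineOpens.exists_subset_of_mem_open (Set.mem_univ x) isOpen_univ
    refine ⟨V, hxV, hV, (U.ι.isAffineOpen_iff_of_isOpenImmersion).1 ?_⟩
    rw [Scheme.Hom.image_preimage_eq_opensRange_inf, Scheme.Opens.opensRange_ι]
    exact isAffineOpen_inf_of_cond s hX hF hU hs h hV

end Groth.Agent.RefX2
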