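import Groth.Agent.RefX2.FreeLocus
import Groth.Agent.RefX2.Normality
import Groth.Agent.RefX.Ext
import Groth.Agent.AssLib.OpenRestrict

/-!
# Extension from big opens and reflexivity
-/

universe u

set_option backward.isDefEq.respectTransparency false
set_option backward.isDefEq.respectTransparency.types false
set_option linter.style.haveILetI false

open CategoryTheory AlgebraicGeometry TopologicalSpace Opposite

namespace Groth.Agent.RefX2

variable {X : Scheme.{u}} [IsIntegral X] {U : X.Opens} {F : X.Modules}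

theorem eq_zero_or_of_isFinLocFree_restrict (h : FlatMod.IsFinLocFree (F.restrict U.ι)) {y : X} (hy : y ∈ U)
    (a : X.presheaf.stalk y) (m : F.presheaf.stalk y) (ham : a • m = 0) : a = 0 ∨ m = 0 := by
  obtain ⟨e, he⟩ := AssLib.exists_semilinear_restrict U.ι F ⟨y, hy⟩
  obtain ⟨m', rfl⟩ := e.surjective m
  haveI : Nonempty (U : Scheme.{u}) := ⟨⟨y, hy⟩⟩
  haveI := QCoh.free_stalk_of_isFinLocFree h ⟨y, hy⟩
  haveI : IsDomain ((U : Scheme.{u}).presheaf.stalk ⟨y, hy⟩) := inferInstance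
  have h0 : (U.ι.stalkMap ⟨y, hy⟩).hom a • m' = 0 := e.injective ((he a m').trans (ham.trans (map_zero e).symm))
  rcases eq_or_ne ((U.ι.stalkMap ⟨y, hy⟩).hom a) 0 with h1 | h1
  · exact Or.inl ((ConcreteCategory.bijective_of_isIso (U.ι.stalkMap ⟨y, hy⟩)).1 (h1.trans (map_zero _).symm))
  · exact Or.inr (by rw [(smul_eq_zero.1 h0).resolve_left h1, map_zero])

/-- Injective restriction to an open where the module is locally free gives torsion freeness. -/
theorem tf_of_injective_res (hF : Coh.IsQCoh F) (hfree : FlatMod.IsFinLocFree (F.restrict U.ι))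
    (h : ∀ W : X.Opens, Function.Injective (AModX.res F (inf_le_left : W ⊓ U ≤ W))) : TF F := by
  refine tf_of_smul_eq_zero hF fun x a m ham => or_iff_not_imp_left.2 fun ha => ?_
  obtain ⟨W₁, hx₁, r, rfl⟩ := TopCat.Presheaf.exists_germ_eq X.presheaf a
  obtain ⟨W₂, hx₂, s, rfl⟩ := TopCat.Presheaf.exists_germ_eq F.presheaf m
  have h1 : F.presheaf.germ (W₁ ⊓ W₂) x ⟨hx₁, hx₂⟩
      (X.presheaf.map (homOfLE (inf_le_left : W₁ ⊓ W₂ ≤ W₁)).op r • AModX.res F inf_le_right s) =
      F.presheaf.germ (W₁ ⊓ W₂) x ⟨hx₁, hx₂⟩ 0 := by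
    rw [QCoh.germ_smul', RefX.germ_res, TopCat.Presheaf.germ_res_apply, ham, map_zero]
  obtain ⟨W, hxW, i, i', hi⟩ := TopCat.Presheaf.germ_eq F.presheaf x _ _ _ _ h1
  have hW₁ : W ≤ W₁ := i.le.trans inf_le_left
  have hW₂ : W ≤ W₂ := i.le.trans inf_le_right
  have key : AModX.res F ((inf_le_left : W ⊓ U ≤ W).trans hW₂) s = 0 := by
    refine ZClosLib.section_ext F _ _ fun y hy => ?_
    have hzero : X.presheaf.germ W₁ y (hW₁ hy.1) r • F.presheaf.germ W₂ y (hW₂ hy.1) s = 0 := by
      have h2 := congrArg (F.presheaf.germ W y hy.1) hi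
      rw [TopCat.Presheaf.germ_res_apply, TopCat.Presheaf.germ_res_apply, map_zero, QCoh.germ_smul',
        RefX.germ_res, TopCat.Presheaf.germ_res_apply] at h2
      exact h2
    rw [RefX.germ_res, map_zero]
    refine (eq_zero_or_of_isFinLocFree_restrict hfree hy.2 _ _ hzero).resolve_left fun h3 => ha ?_
    refine FaithfulSMul.algebraMap_injective (X.presheaf.stalk x) X.functionField ?_
    have h4 := congrArg (X.presheaf.stalkSpecializes (gen_spec y)) h3
    rw [TopCat.Presheaf.germ_stalkSpecializes_apply, map_zero] at h4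
    rw [map_zero]
    exact (TopCat.Presheaf.germ_stalkSpecializes_apply X.presheaf hx₁ (gen_spec x) r).trans h4
  have h5 : AModX.res F hW₂ s = 0 := h W (by rw [AModX.res_res, key, map_zero])
  rw [← RefX.germ_res F hW₂ hxW, h5, map_zero]

/-- A module extending from a big open where it is locally free is cut out in codimension one. -/
theorem hart_of_extendsAcross [IsLocallyNoetherian X] (hF : Coh.IsQCoh F)
    (hfree : FlatMod.IsFinLocFree (F.restrict U.ι))
    (hU : ∀ x : X, x ∉ U → (2 : WithBot ℕ∞) ≤ ringKrullDim (X.presheaf.stalk x))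
    (hUhart : ∀ (x : X), x ∈ U → ∀ (v : F.presheaf.stalk (genericPoint X)),
      (∀ y : X, y ⤳ x → Order.coheight y = 1 → v ∈ Lat F y) → v ∈ Lat F x)
    (hext : RefX.ExtendsAcross U F) (hX : Pi1.IsNormalScheme X) : Hart F := by
  have htf := tf_of_injective_res hF hfree fun W => (hext W).1
  refine ⟨htf, fun x v hv => ?_⟩
  obtain ⟨W₁, hηW₁, t₁, ht₁⟩ := TopCat.Presheaf.exists_germ_eq F.presheaf v
  obtain ⟨W', hxW', hfin⟩ := finite_codim_one_off hX hηW₁ x
  have hfin' : {z : X | z ∈ W' ∧ (Order.coheight z = 1 ∧ v ∉ Lat F z)}.Finite :=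
    hfin.subset fun z hz => ⟨hz.1, hz.2.1, fun hzW => hz.2.2 (ht₁ ▸ germ_mem_lat hzW hηW₁ t₁)⟩
  obtain ⟨W, hxW, -, hW⟩ := exists_nhd_avoid hxW' (fun z => Order.coheight z = 1 ∧ v ∉ Lat F z) hfin'
    fun z hz hP => hP.2 (hv z hz hP.1)
  obtain ⟨t, ht⟩ := exists_section_of_forall_lat htf (W := W ⊓ U) (v := v) fun z hz => hUhart z hz.2 v
    fun y hy hy1 => by_contra fun hn => hW y (hy.mem_open W.isOpen hz.1) ⟨hy1, hn⟩
  obtain ⟨s, hs⟩ := (hext W).2 t
  have hηU : genericPoint X ∈ U := by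
    by_contra h0
    exact (coheight_ne_of_two_le (hU _ h0)).1 coheight_genericPoint
  refine ⟨F.presheaf.germ W x hxW s, ?_⟩
  rw [toGen_germ, ← RefX.germ_res F (inf_le_left : W ⊓ U ≤ W) ⟨gen_mem hxW, hηU⟩, hs, ht]

end Groth.Agent.RefX2

namespace Groth.Agent.RefX2

variable {X : Scheme.{u}} {U : X.Opens} {F : X.Modules}

/-- A module which is locally free on an open is reflexive there. -/
theorem isReflexiveAt_of_isFinLocFree_restrict (h : FlatMod.IsFinLocFree (F.restrict U.ι)) {y : X} (hy : y ∈ U)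
    [Module.Finite (X.presheaf.stalk y) (F.presheaf.stalk y)] : RefHull.IsReflexiveAt F y := by
  obtain ⟨e, he⟩ := AssLib.exists_semilinear_restrict U.ι F ⟨y, hy⟩
  haveI := QCoh.free_stalk_of_isFinLocFree h ⟨y, hy⟩
  let σ : X.presheaf.stalk y ≃+* (U : Scheme.{u}).presheaf.stalk ⟨y, hy⟩ :=
    (asIso (U.ι.stalkMap ⟨y, hy⟩)).commRingCatIsoToRingEquiv
  let f : (U : Scheme.{u}).presheaf.stalk ⟨y, hy⟩ →+* X.presheaf.stalk y := σ.symm.toRingHom
  let g : X.presheaf.stalk y →+* (U : Scheme.{u}).presheaf.stalk ⟨y, hy⟩ := σ.toRingHom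
  haveI : RingHomInvPair f g := ⟨RingHom.ext σ.apply_symm_apply, RingHom.ext σ.symm_apply_apply⟩
  haveI : RingHomInvPair g f := ⟨RingHom.ext σ.symm_apply_apply, RingHom.ext σ.apply_symm_apply⟩
  let l : (F.restrict U.ι).presheaf.stalk ⟨y, hy⟩ ≃ₛₗ[f] F.presheaf.stalk y :=
    { e with
      map_smul' := fun r m => by
        obtain ⟨a, rfl⟩ := σ.surjective r
        show e (σ a • m) = σ.symm (σ a) • (show F.presheaf.stalk y from e m)
        rw [σ.symm_apply_apply]
        exact he a m }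
  haveI : Module.Free (X.presheaf.stalk y) (F.presheaf.stalk y) := Module.Free.of_equiv l
  exact (inferInstance : Module.IsReflexive (X.presheaf.stalk y) (F.presheaf.stalk y))

end Groth.Agent.RefX2
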