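import Groth.Agent.RefX2.Normality
import Groth.Agent.RefX2.Iso
import Groth.Agent.CDiv6.Factorial
import Groth.Agent.Alg6.AssDepth

/-!
# Isomorphisms tested outside depth two
-/

universe u

set_option backward.isDefEq.respectTransparency false
set_option backward.isDefEq.respectTransparency.types false
set_option linter.style.haveILetI false

open CategoryTheory AlgebraicGeometry TopologicalSpace Opposite IsLocalRing
open scoped Pointwise

namespace Groth.Agent.RefX2

theorem regular_smul_mem_range {R M N : Type*} [CommRing R] [AddCommGroup M] [Module R M] [AddCommGroup N]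
    [Module R N] (f : M →ₗ[R] N) (hf : Function.Injective f) {a b : R}
    (hb : IsSMulRegular (QuotSMulTop a M) b) (haN : IsSMulRegular N a) {g : N}
    (ha' : a • g ∈ LinearMap.range f) (hb' : b • g ∈ LinearMap.range f) : g ∈ LinearMap.range f := by
  obtain ⟨m₁, h₁⟩ := ha'
  obtain ⟨m₂, h₂⟩ := hb'
  have h : a • m₂ = b • m₁ := hf (by rw [map_smul, map_smul, h₁, h₂, smul_comm])
  have h0 : Submodule.mkQ (a • (⊤ : Submodule R M)) m₁ = 0 := hb (by
    show b • Submodule.mkQ (a • (⊤ : Submodule R M)) m₁ = b • 0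
    rw [smul_zero, ← map_smul, ← h]
    exact (Submodule.Quotient.mk_eq_zero _).2 (Submodule.smul_mem_pointwise_smul _ _ _ Submodule.mem_top))
  obtain ⟨m, -, hm⟩ := ((Submodule.Quotient.mk_eq_zero _).1 h0 : m₁ ∈ a • (⊤ : Submodule R M))
  refine ⟨m, haN ?_⟩
  show a • f m = a • g
  rw [← map_smul, ← h₁]
  exact congrArg f hm

theorem maximal_pow_le {R : Type*} [CommRing R] [IsLocalRing R] [IsNoetherianRing R] (I : Ideal R)
    (h : ∀ Q : PrimeSpectrum R, Q.asIdeal ≠ maximalIdeal R → ¬ I ≤ Q.asIdeal) :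
    ∃ n : ℕ, maximalIdeal R ^ n ≤ I := by
  refine Ideal.exists_pow_le_of_le_radical_of_fg ?_ (IsNoetherian.noetherian _)
  rw [Ideal.radical_eq_sInf]
  refine le_sInf fun Q ⟨hQ, hQp⟩ => ?_
  by_contra hne
  exact h ⟨Q, hQp⟩ (fun e => hne (le_of_eq e.symm)) hQ

variable {X : Scheme.{u}}

theorem exists_smul_eq_zero_of_sp {M : X.Modules} (hM : Coh.IsQCoh M) {x y : X} (h : y ⤳ x) {m : M.presheaf.stalk x}
    (hm : sp M h m = 0) : ∃ r : X.presheaf.stalk x, r ∉ (CDiv6.primeOf h).asIdeal ∧ r • m = 0 := by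
  obtain ⟨_, ⟨U, hU, rfl⟩, hx, -⟩ :=
    X.isBasis_affineOpens.exists_subset_of_mem_open (Set.mem_univ x) isOpen_univ
  have hU' : IsAffineOpen U := hU
  letI := QCoh.stalkModule M hx
  haveI := QCoh.isLocalizedModule_germLin hM hU' hx
  obtain ⟨⟨m₀, s⟩, hms⟩ := IsLocalizedModule.surj (hU'.primeIdealOf ⟨x, hx⟩).asIdeal.primeCompl (QCoh.germLin M hx) m
  have hms' : X.presheaf.germ U x hx s.1 • m = M.presheaf.germ U x hx m₀ := hms
  have hy : y ∈ U := h.mem_open U.isOpen hx
  have h0 : M.presheaf.germ U y hy m₀ = 0 := by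
    rw [← sp_germ M h hx, ← hms', sp_smul, hm, smul_zero]
  obtain ⟨f, hf, hfm⟩ := (QCoh.germ_eq_zero_iff hM hU' hy m₀).1 h0
  have hu : IsUnit (X.presheaf.germ U x hx s.1) :=
    (X.mem_basicOpen _ _ hx).1 ((QCoh.mem_basicOpen_iff_notMem hU' hx s.1).2 s.2)
  refine ⟨X.presheaf.germ U x hx f, fun hmem => (CDiv6.mem_primeOf h _).1 hmem ?_, hu.smul_left_cancel.1 ?_⟩
  · rw [TopCat.Presheaf.germ_stalkSpecializes_apply]
    exact (X.mem_basicOpen _ _ hy).1 hf
  · rw [smul_zero, smul_comm, hms', ← QCoh.germ_smul', hfm, map_zero]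

theorem exists_smul_eq_sp {M : X.Modules} (hM : Coh.IsQCoh M) {x y : X} (h : y ⤳ x) (v : M.presheaf.stalk y) :
    ∃ (r : X.presheaf.stalk x) (m : M.presheaf.stalk x),
      r ∉ (CDiv6.primeOf h).asIdeal ∧ X.presheaf.stalkSpecializes h r • v = sp M h m := by
  obtain ⟨_, ⟨U, hU, rfl⟩, hx, -⟩ :=
    X.isBasis_affineOpens.exists_subset_of_mem_open (Set.mem_univ x) isOpen_univ
  have hU' : IsAffineOpen U := hU
  have hy : y ∈ U := h.mem_open U.isOpen hx
  letI := QCoh.stalkModule M hy
  haveI := QCoh.isLocalizedModule_germLin hM hU' hy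
  obtain ⟨⟨m₀, s⟩, hms⟩ := IsLocalizedModule.surj (hU'.primeIdealOf ⟨y, hy⟩).asIdeal.primeCompl (QCoh.germLin M hy) v
  have hms' : X.presheaf.germ U y hy s.1 • v = M.presheaf.germ U y hy m₀ := hms
  refine ⟨X.presheaf.germ U x hx s.1, M.presheaf.germ U x hx m₀, fun hmem => (CDiv6.mem_primeOf h _).1 hmem ?_, ?_⟩
  · rw [TopCat.Presheaf.germ_stalkSpecializes_apply]
    exact (X.mem_basicOpen _ _ hy).1 ((QCoh.mem_basicOpen_iff_notMem hU' hy s.1).2 s.2)
  · rw [TopCat.Presheaf.germ_stalkSpecializes_apply, sp_germ, hms']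

variable [IsIntegral X] [IsLocallyNoetherian X]

theorem bijective_of_depth {F G : X.Modules} (φ : F ⟶ G) (hF : Coh.IsCoh F) (hG : Coh.IsQCoh G) (htf : TF G)
    (h : ∀ x : X, Function.Bijective (RefHull.stalkMapₗ φ x) ∨
      ((2 : ℕ∞) ≤ LocCoh.depth (X.presheaf.stalk x) (F.presheaf.stalk x) ∧ x ≠ genericPoint X)) :
    ∀ (n : ℕ) (x : X), Order.coheight x < n → Function.Bijective (RefHull.stalkMapₗ φ x) := by
  intro n
  induction n with
  | zero => intro x hx; exact absurd hx (by simp)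
  | succ n ih =>
    intro x hx
    rcases h x with hb | ⟨hd, hne⟩
    · exact hb
    have hn : Order.coheight x ≤ n := by
      rw [Nat.cast_add, Nat.cast_one] at hx
      exact (ENat.lt_add_one_iff (ENat.natCast_ne_top n)).1 hx
    have hlt : ∀ y : X, y ⤳ x → y ≠ x → Function.Bijective (RefHull.stalkMapₗ φ y) := fun y hy hyx => by
      refine ih y (lt_of_lt_of_le ?_ hn)
      have h' : x < y := lt_of_le_not_ge hy fun h' => hyx (hy.antisymm h').eq
      exact Order.coheight_strictAnti h' (lt_of_le_of_lt (Order.coheight_anti h'.le)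
        (lt_of_le_of_lt hn (ENat.natCast_lt_top n)))
    have hQ : ∀ Q : PrimeSpectrum (X.presheaf.stalk x), Q.asIdeal ≠ maximalIdeal _ → ∃ (y : X) (hy : y ⤳ x),
        y ≠ x ∧ (CDiv6.primeOf hy).asIdeal = Q.asIdeal := fun Q hQ => by
      refine ⟨_, CDiv6.fromSpecStalk_specializes Q, fun e => hQ ?_, by rw [CDiv6.primeOf_fromSpecStalk]⟩
      have h1 : X.fromSpecStalk x Q = X.fromSpecStalk x (closedPoint _) := e.trans Scheme.fromSpecStalk_closedPoint.symm
      exact congrArg PrimeSpectrum.asIdeal ((X.fromSpecStalk x).isEmbedding.injective h1)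
    haveI := finite_stalk hF x
    obtain ⟨hm, hreg⟩ := Alg6.two_le_depth_iff'.1 hd
    have hexists : ∀ (M : Type u) [AddCommGroup M] [Module (X.presheaf.stalk x) M]
        [Module.Finite (X.presheaf.stalk x) M], maximalIdeal (X.presheaf.stalk x) ∉ associatedPrimes _ M →
        ∃ a ∈ maximalIdeal (X.presheaf.stalk x), IsSMulRegular M a := fun M _ _ _ h1 =>
      (Alg6.exists_isSMulRegular_mem_iff (M := M) (maximalIdeal _)).2 fun p hp hle => h1 (by
        rwa [(maximalIdeal.isMaximal _).eq_of_le (IsAssociatedPrime.isPrime hp).ne_top hle])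
    obtain ⟨a, ha, ha0, haR⟩ : ∃ a ∈ maximalIdeal (X.presheaf.stalk x), a ≠ 0 ∧ IsSMulRegular (F.presheaf.stalk x) a := by
      rcases subsingleton_or_nontrivial (F.presheaf.stalk x) with hs | hs
      · obtain ⟨a, ha, ha0⟩ := Submodule.exists_mem_ne_zero_of_ne_bot (p := maximalIdeal (X.presheaf.stalk x)) fun e => by
          obtain ⟨y, hy, hyx, hyQ⟩ : ∃ (y : X) (hy : y ⤳ x), y ≠ x ∧ True := ⟨_, gen_spec x, hne.symm, trivial⟩
          refine hyx ?_
          have h1 : CDiv6.primeOf hy = closedPoint (X.presheaf.stalk x) := PrimeSpectrum.ext (by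
            refine le_antisymm (IsLocalRing.le_maximalIdeal (CDiv6.primeOf hy).isPrime.ne_top) ?_
            show maximalIdeal _ ≤ _
            rw [e]
            exact bot_le)
          rw [← CDiv6.fromSpecStalk_primeOf hy, h1]
          exact Scheme.fromSpecStalk_closedPoint
        exact ⟨a, ha, ha0, fun u v _ => Subsingleton.elim u v⟩
      · obtain ⟨a, ha, haR⟩ := hexists (F.presheaf.stalk x) hm
        refine ⟨a, ha, fun h0 => ?_, haR⟩
        obtain ⟨w, hw⟩ := exists_ne (0 : F.presheaf.stalk x)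
        exact hw (haR (by rw [h0]; simp))
    obtain ⟨b, hb, hbR⟩ := hexists _ (hreg a ha haR)
    let f := RefHull.stalkMapₗ φ x
    have hinj : Function.Injective f := (injective_iff_map_eq_zero f).2 fun v hv => by
      obtain ⟨N, hN⟩ := maximal_pow_le (LinearMap.ker (LinearMap.toSpanSingleton _ _ v)) fun Q hQm hle => by
        obtain ⟨y, hy, hyx, hyQ⟩ := hQ Q hQm
        obtain ⟨r, hr, hr0⟩ := exists_smul_eq_zero_of_sp (QCoh.isCoh_iff.1 hF).1 hy (m := v)
          ((hlt y hy hyx).1 (by rw [stalkMap_sp, show RefHull.stalkMapₗ φ x v = 0 from hv, map_zero, map_zero]))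
        exact hr (hyQ ▸ hle hr0)
      have h1 : a ^ N • v = 0 := hN (Ideal.pow_mem_pow ha N)
      exact (haR.pow N) (h1.trans (smul_zero _).symm)
    refine ⟨hinj, fun g => LinearMap.mem_range.1 ?_⟩
    obtain ⟨N, hN⟩ := maximal_pow_le ((LinearMap.range f).comap (LinearMap.toSpanSingleton _ _ g)) fun Q hQm hle => by
      obtain ⟨y, hy, hyx, hyQ⟩ := hQ Q hQm
      obtain ⟨v, hv⟩ := (hlt y hy hyx).2 (sp G hy g)
      obtain ⟨r, m, hr, hrm⟩ := exists_smul_eq_sp (QCoh.isCoh_iff.1 hF).1 hy v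
      obtain ⟨r', hr', hr0⟩ := exists_smul_eq_zero_of_sp hG hy (m := r • g - f m) (by
        rw [map_sub, sp_smul, ← hv, ← map_smul, hrm, stalkMap_sp, sub_self])
      have hmem : r' * r ∈ (CDiv6.primeOf hy).asIdeal := by
        rw [hyQ]
        refine hle ⟨r' • m, ?_⟩
        show f (r' • m) = (r' * r) • g
        rw [smul_sub, sub_eq_zero] at hr0
        rw [map_smul, mul_smul, hr0]
      exact ((CDiv6.primeOf hy).isPrime.mem_or_mem hmem).elim hr' hr
    have haN : IsSMulRegular (G.presheaf.stalk x) a := fun u v e => by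
      exact sub_eq_zero.1 ((htf.noZeroSMul x a (u - v) (by rw [smul_sub, sub_eq_zero]; exact e)).resolve_left ha0)
    have key : ∀ (k : ℕ) (w : G.presheaf.stalk x), (∀ s ∈ maximalIdeal (X.presheaf.stalk x) ^ k, s • w ∈ LinearMap.range f) →
        w ∈ LinearMap.range f := by
      intro k
      induction k with
      | zero => intro w hw; simpa using hw 1 (by simp)
      | succ k ihk =>
        intro w hw
        have hr : ∀ r ∈ maximalIdeal (X.presheaf.stalk x), r • w ∈ LinearMap.range f := fun r hr =>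
          ihk _ fun s hs => by
            rw [← mul_smul]
            exact hw _ (pow_succ (maximalIdeal (X.presheaf.stalk x)) k ▸ Ideal.mul_mem_mul hs hr)
        exact regular_smul_mem_range f hinj hbR haN (hr a ha) (hr b hb)
    exact key N g fun s hs => hN hs

end Groth.Agent.RefX2
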