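import Groth.Agent.RefX2.DepthTwo

/-!
# Isomorphisms tested outside depth two, the general criterion
-/

universe u

set_option backward.isDefEq.respectTransparency false
set_option backward.isDefEq.respectTransparency.types false
set_option linter.style.haveILetI false

open CategoryTheory AlgebraicGeometry TopologicalSpace Opposite IsLocalRing
open scoped Pointwise

namespace Groth.Agent.RefX2

theorem isAssociatedPrime_of_ann {R N : Type*} [CommRing R] [IsLocalRing R] [AddCommGroup N] [Module R N] {x : N}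
    (h : ∀ r ∈ maximalIdeal R, r • x = 0) (hx : x ≠ 0) : IsAssociatedPrime (maximalIdeal R) N := by
  refine ⟨(maximalIdeal.isMaximal R).isPrime, x, ?_⟩
  have e : Submodule.colon (⊥ : Submodule R N) {x} = maximalIdeal R := by
    refine le_antisymm (IsLocalRing.le_maximalIdeal fun ht => hx ?_) fun r hr => ?_
    · have h1 : (1 : R) ∈ Submodule.colon (⊥ : Submodule R N) {x} := ht ▸ trivial
      simpa [Submodule.mem_colon_singleton] using h1
    · simpa [Submodule.mem_colon_singleton] using h r hr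
  rw [e, (maximalIdeal.isMaximal R).isPrime.radical]

theorem smul_mem_range {R M N : Type*} [CommRing R] [IsLocalRing R] [AddCommGroup M] [Module R M] [AddCommGroup N]
    [Module R N] (f : M →ₗ[R] N) (hf : Function.Injective f) {a b : R} (haR : IsSMulRegular M a)
    (hbR : IsSMulRegular (QuotSMulTop a M) b) (ha : a ∈ maximalIdeal R) (hb : b ∈ maximalIdeal R) {g : N}
    (hr : ∀ r ∈ maximalIdeal R, r • g ∈ LinearMap.range f) (hne : ¬ IsAssociatedPrime (maximalIdeal R) N) :
    g ∈ LinearMap.range f := by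
  obtain ⟨m₁, h₁⟩ := hr a ha
  obtain ⟨m₂, h₂⟩ := hr b hb
  have h : a • m₂ = b • m₁ := hf (by rw [map_smul, map_smul, h₁, h₂, smul_comm])
  have h0 : Submodule.mkQ (a • (⊤ : Submodule R M)) m₁ = 0 := hbR (by
    show b • Submodule.mkQ (a • (⊤ : Submodule R M)) m₁ = b • 0
    rw [smul_zero, ← map_smul, ← h]
    exact (Submodule.Quotient.mk_eq_zero _).2 (Submodule.smul_mem_pointwise_smul _ _ _ Submodule.mem_top))
  obtain ⟨m, -, hm⟩ := ((Submodule.Quotient.mk_eq_zero _).1 h0 : m₁ ∈ a • (⊤ : Submodule R M))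
  replace hm : a • m = m₁ := hm
  have hann : ∀ r ∈ maximalIdeal R, r • (g - f m) = 0 := fun r hr' => by
    obtain ⟨m₃, h₃⟩ := hr r hr'
    have e : m₃ = r • m := haR (show a • m₃ = a • (r • m) from hf (by
      rw [map_smul, h₃, smul_comm a r m, hm, map_smul, h₁, smul_comm]))
    rw [smul_sub, ← h₃, e, map_smul, sub_self]
  by_contra hg
  refine hne (isAssociatedPrime_of_ann hann fun h0 => hg ⟨m, (sub_eq_zero.1 h0).symm⟩)

variable {X : Scheme.{u}} [IsLocallyNoetherian X]

theorem bijective_of_depth_gen {F G : X.Modules} (φ : F ⟶ G) (hF : Coh.IsCoh F) (hG : Coh.IsQCoh G)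
    (h : ∀ x : X, Function.Bijective (RefHull.stalkMapₗ φ x) ∨
      ((2 : ℕ∞) ≤ LocCoh.depth (X.presheaf.stalk x) (F.presheaf.stalk x) ∧ ¬ Curv2.IsAssPoint G x)) :
    ∀ (n : ℕ) (x : X), Order.coheight x < n → Function.Bijective (RefHull.stalkMapₗ φ x) := by
  intro n
  induction n with
  | zero => intro x hx; exact absurd hx (by simp)
  | succ n ih =>
    intro x hx
    rcases h x with hb | ⟨hd, hne⟩
    · exact hb
    have hn : Order.coheight x ≤ n := by
      rw [Nat.cast_add, Nat.cast_one] at hx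
      exact (ENat.lt_add_one_iff (ENat.natCast_ne_top n)).1 hx
    have hlt : ∀ y : X, y ⤳ x → y ≠ x → Function.Bijective (RefHull.stalkMapₗ φ y) := fun y hy hyx => by
      refine ih y (lt_of_lt_of_le ?_ hn)
      have h' : x < y := lt_of_le_not_ge hy fun h' => hyx (hy.antisymm h').eq
      exact Order.coheight_strictAnti h' (lt_of_le_of_lt (Order.coheight_anti h'.le)
        (lt_of_le_of_lt hn (ENat.natCast_lt_top n)))
    have hQ : ∀ Q : PrimeSpectrum (X.presheaf.stalk x), Q.asIdeal ≠ maximalIdeal _ → ∃ (y : X) (hy : y ⤳ x),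
        y ≠ x ∧ (CDiv6.primeOf hy).asIdeal = Q.asIdeal := fun Q hQ => by
      refine ⟨_, CDiv6.fromSpecStalk_specializes Q, fun e => hQ ?_, by rw [CDiv6.primeOf_fromSpecStalk]⟩
      have h1 : X.fromSpecStalk x Q = X.fromSpecStalk x (closedPoint _) := e.trans Scheme.fromSpecStalk_closedPoint.symm
      exact congrArg PrimeSpectrum.asIdeal ((X.fromSpecStalk x).isEmbedding.injective h1)
    haveI : Module.Finite (X.presheaf.stalk x) (F.presheaf.stalk x) :=
      QCoh.finite_stalk_of_isFT (QCoh.isCoh_iff.1 hF).1 (QCoh.isFT_of_isFP (QCoh.isCoh_iff_isFP.1 hF)) x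
    obtain ⟨hm, hreg⟩ := Alg6.two_le_depth_iff'.1 hd
    have hexists : ∀ (M : Type u) [AddCommGroup M] [Module (X.presheaf.stalk x) M]
        [Module.Finite (X.presheaf.stalk x) M], maximalIdeal (X.presheaf.stalk x) ∉ associatedPrimes _ M →
        ∃ a ∈ maximalIdeal (X.presheaf.stalk x), IsSMulRegular M a := fun M _ _ _ h1 =>
      (Alg6.exists_isSMulRegular_mem_iff (M := M) (maximalIdeal _)).2 fun p hp hle => h1 (by
        rwa [(maximalIdeal.isMaximal _).eq_of_le (IsAssociatedPrime.isPrime hp).ne_top hle])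
    obtain ⟨a, ha, haR⟩ : ∃ a ∈ maximalIdeal (X.presheaf.stalk x), IsSMulRegular (F.presheaf.stalk x) a := by
      rcases subsingleton_or_nontrivial (F.presheaf.stalk x) with hs | hs
      · exact ⟨0, zero_mem _, fun u v _ => Subsingleton.elim u v⟩
      · exact hexists (F.presheaf.stalk x) hm
    obtain ⟨b, hb, hbR⟩ := hexists _ (hreg a ha haR)
    let f := RefHull.stalkMapₗ φ x
    have hinj : Function.Injective f := (injective_iff_map_eq_zero f).2 fun v hv => by
      obtain ⟨N, hN⟩ := maximal_pow_le (LinearMap.ker (LinearMap.toSpanSingleton _ _ v)) fun Q hQm hle => by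
        obtain ⟨y, hy, hyx, hyQ⟩ := hQ Q hQm
        obtain ⟨r, hr, hr0⟩ := exists_smul_eq_zero_of_sp (QCoh.isCoh_iff.1 hF).1 hy (m := v)
          ((hlt y hy hyx).1 (by rw [stalkMap_sp, show RefHull.stalkMapₗ φ x v = 0 from hv, map_zero, map_zero]))
        exact hr (hyQ ▸ hle hr0)
      have h1 : a ^ N • v = 0 := hN (Ideal.pow_mem_pow ha N)
      exact (haR.pow N) (h1.trans (smul_zero _).symm)
    refine ⟨hinj, fun g => LinearMap.mem_range.1 ?_⟩
    obtain ⟨N, hN⟩ := maximal_pow_le ((LinearMap.range f).comap (LinearMap.toSpanSingleton _ _ g)) fun Q hQm hle => by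
      obtain ⟨y, hy, hyx, hyQ⟩ := hQ Q hQm
      obtain ⟨v, hv⟩ := (hlt y hy hyx).2 (sp G hy g)
      obtain ⟨r, m, hr, hrm⟩ := exists_smul_eq_sp (QCoh.isCoh_iff.1 hF).1 hy v
      obtain ⟨r', hr', hr0⟩ := exists_smul_eq_zero_of_sp hG hy (m := r • g - f m) (by
        rw [map_sub, sp_smul, ← hv, ← map_smul, hrm, stalkMap_sp, sub_self])
      have hmem : r' * r ∈ (CDiv6.primeOf hy).asIdeal := by
        rw [hyQ]
        refine hle ⟨r' • m, ?_⟩
        show f (r' • m) = (r' * r) • g
        rw [smul_sub, sub_eq_zero] at hr0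
        rw [map_smul, mul_smul, hr0]
      exact ((CDiv6.primeOf hy).isPrime.mem_or_mem hmem).elim hr' hr
    have key : ∀ (k : ℕ) (w : G.presheaf.stalk x), (∀ s ∈ maximalIdeal (X.presheaf.stalk x) ^ k, s • w ∈ LinearMap.range f) →
        w ∈ LinearMap.range f := by
      intro k
      induction k with
      | zero => intro w hw; simpa using hw 1 (by simp)
      | succ k ihk =>
        intro w hw
        have hr : ∀ r ∈ maximalIdeal (X.presheaf.stalk x), r • w ∈ LinearMap.range f := fun r hr =>
          ihk _ fun s hs => by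
            rw [← mul_smul]
            exact hw _ (pow_succ (maximalIdeal (X.presheaf.stalk x)) k ▸ Ideal.mul_mem_mul hs hr)
        exact smul_mem_range f hinj haR hbR ha hb hr hne
    exact key N g fun s hs => hN hs

end Groth.Agent.RefX2
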