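import Groth.Agent.RefX.Reflexive
import Groth.Agent.H23.ZeroSec
import Mathlib.AlgebraicGeometry.FunctionField

/-!
# Lattices of stalks inside the generic stalk
-/

universe u

set_option backward.isDefEq.respectTransparency false
set_option backward.isDefEq.respectTransparency.types false
set_option linter.style.haveILetI false

open CategoryTheory AlgebraicGeometry TopologicalSpace Opposite

namespace Groth.Agent.RefX2

variable {X : Scheme.{u}}

/-- Specialization of stalks, as an additive map. -/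
noncomputable def sp (M : X.Modules) {x z : X} (h : z ⤳ x) : M.presheaf.stalk x →+ M.presheaf.stalk z :=
  (M.presheaf.stalkSpecializes h).hom

theorem sp_smul (M : X.Modules) {x z : X} (h : z ⤳ x) (a : X.presheaf.stalk x) (m : M.presheaf.stalk x) :
    sp M h (a • m) = X.presheaf.stalkSpecializes h a • sp M h m :=
  H23.ZeroSec.stalkSpecializes_smul M h a m

theorem sp_germ (M : X.Modules) {x z : X} (h : z ⤳ x) {U : X.Opens} (hx : x ∈ U) (s : Γ(M, U)) :
    sp M h (M.presheaf.germ U x hx s) = M.presheaf.germ U z (h.mem_open U.isOpen hx) s :=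
  TopCat.Presheaf.germ_stalkSpecializes_apply M.presheaf hx h s

theorem sp_sp (M : X.Modules) {x y z : X} (h : z ⤳ y) (h' : y ⤳ x) (m : M.presheaf.stalk x) :
    sp M h (sp M h' m) = sp M (h.trans h') m := by
  obtain ⟨U, hx, s, rfl⟩ := M.presheaf.exists_germ_eq m
  rw [sp_germ, sp_germ, sp_germ]

theorem sp_refl (M : X.Modules) {x : X} (h : x ⤳ x) (m : M.presheaf.stalk x) : sp M h m = m := by
  obtain ⟨U, hx, s, rfl⟩ := M.presheaf.exists_germ_eq m
  rw [sp_germ]

/-- Naturality of stalk maps of morphisms. -/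
theorem stalkMap_sp {M N : X.Modules} (ψ : M ⟶ N) {x z : X} (h : z ⤳ x) (m : M.presheaf.stalk x) :
    RefHull.stalkMapₗ ψ z (sp M h m) = sp N h (RefHull.stalkMapₗ ψ x m) := by
  obtain ⟨U, hx, s, rfl⟩ := M.presheaf.exists_germ_eq m
  rw [sp_germ, RefHull.stalkMapₗ_germ, RefHull.stalkMapₗ_germ, sp_germ]

/-- Naturality of the components of a section of the sheaf Hom. -/
theorem homSect_sp {F G : X.Modules} {U : X.Opens} (g : Γ(RefHull.homSh F G, U)) {x z : X} (h : z ⤳ x)
    (hx : x ∈ U) (m : F.presheaf.stalk x) :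
    g.1 ⟨z, h.mem_open U.isOpen hx⟩ (sp F h m) = sp G h (g.1 ⟨x, hx⟩ m) := by
  obtain ⟨V, hxV, s, rfl⟩ := F.presheaf.exists_germ_eq m
  have h1 : (F.presheaf.germ V x hxV).hom s = F.presheaf.germ (V ⊓ U) x ⟨hxV, hx⟩ (AModX.res F inf_le_left s) :=
    (RefX.germ_res F inf_le_left _ s).symm
  erw [h1]
  rw [sp_germ, ← RefX.germ_app (inf_le_right : V ⊓ U ≤ U) g (AModX.res F inf_le_left s) (y := x) ⟨hxV, hx⟩,
    sp_germ, RefX.germ_app]

/-- Naturality of evaluation on stalks. -/
theorem evalStalk_sp {F G : X.Modules} {x z : X} (h : z ⤳ x) (θ : (RefHull.homSh F G).presheaf.stalk x)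
    (m : F.presheaf.stalk x) :
    RefHull.evalStalk F G z (sp (RefHull.homSh F G) h θ) (sp F h m) = sp G h (RefHull.evalStalk F G x θ m) := by
  obtain ⟨U, hx, g, rfl⟩ := (RefHull.homSh F G).presheaf.exists_germ_eq θ
  rw [sp_germ, RefHull.evalStalk_germ, RefHull.evalStalk_germ, homSect_sp g h hx]

section Integral

variable [IsIntegral X]

theorem gen_spec (x : X) : genericPoint X ⤳ x := (genericPoint_spec X).specializes trivial

theorem gen_mem {W : X.Opens} {x : X} (hx : x ∈ W) : genericPoint X ∈ W := (gen_spec x).mem_open W.isOpen hx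

/-- The embedding of a stalk into the generic stalk. -/
noncomputable def toGen (M : X.Modules) (x : X) : M.presheaf.stalk x →+ M.presheaf.stalk (genericPoint X) :=
  sp M (gen_spec x)

/-- The image of a stalk in the generic stalk. -/
def Lat (M : X.Modules) (x : X) : Set (M.presheaf.stalk (genericPoint X)) := Set.range (toGen M x)

theorem toGen_germ (M : X.Modules) {x : X} {U : X.Opens} (hx : x ∈ U) (s : Γ(M, U)) :
    toGen M x (M.presheaf.germ U x hx s) = M.presheaf.germ U (genericPoint X) (gen_mem hx) s :=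
  sp_germ M _ hx s

theorem toGen_smul (M : X.Modules) (x : X) (a : X.presheaf.stalk x) (m : M.presheaf.stalk x) :
    toGen M x (a • m) = algebraMap (X.presheaf.stalk x) X.functionField a • toGen M x m :=
  sp_smul M _ a m

theorem toGen_sp (M : X.Modules) {x y : X} (h : y ⤳ x) (m : M.presheaf.stalk x) :
    toGen M y (sp M h m) = toGen M x m := sp_sp M _ h m

theorem lat_mono (M : X.Modules) {x y : X} (h : y ⤳ x) : Lat M x ⊆ Lat M y := by
  rintro _ ⟨m, rfl⟩
  exact ⟨sp M h m, toGen_sp M h m⟩

theorem stalkMap_toGen {M N : X.Modules} (ψ : M ⟶ N) (x : X) (m : M.presheaf.stalk x) :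
    RefHull.stalkMapₗ ψ (genericPoint X) (toGen M x m) = toGen N x (RefHull.stalkMapₗ ψ x m) :=
  stalkMap_sp ψ _ m

theorem mapsTo_lat {M N : X.Modules} (ψ : M ⟶ N) (x : X) :
    Set.MapsTo (RefHull.stalkMapₗ ψ (genericPoint X)) (Lat M x) (Lat N x) := by
  rintro _ ⟨m, rfl⟩
  exact ⟨_, (stalkMap_toGen ψ x m).symm⟩

theorem smul_mem_lat {M : X.Modules} {x : X} {v : M.presheaf.stalk (genericPoint X)} (hv : v ∈ Lat M x)
    (a : X.presheaf.stalk x) : algebraMap (X.presheaf.stalk x) X.functionField a • v ∈ Lat M x := by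
  obtain ⟨m, rfl⟩ := hv
  exact ⟨a • m, toGen_smul M x a m⟩

theorem add_mem_lat {M : X.Modules} {x : X} {v w : M.presheaf.stalk (genericPoint X)} (hv : v ∈ Lat M x)
    (hw : w ∈ Lat M x) : v + w ∈ Lat M x := by
  obtain ⟨m, rfl⟩ := hv
  obtain ⟨n, rfl⟩ := hw
  exact ⟨m + n, map_add _ m n⟩

theorem zero_mem_lat (M : X.Modules) (x : X) : (0 : M.presheaf.stalk (genericPoint X)) ∈ Lat M x :=
  ⟨0, map_zero _⟩

/-- Every element of the generic stalk is moved into the image of any stalk by a nonzero element. -/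
theorem exists_smul_mem_lat {M : X.Modules} (hM : Coh.IsQCoh M) (x : X) (v : M.presheaf.stalk (genericPoint X)) :
    ∃ a : X.presheaf.stalk x, a ≠ 0 ∧ algebraMap (X.presheaf.stalk x) X.functionField a • v ∈ Lat M x := by
  obtain ⟨_, ⟨U, hU, rfl⟩, hx, -⟩ :=
    X.isBasis_affineOpens.exists_subset_of_mem_open (Set.mem_univ x) isOpen_univ
  have hU' : IsAffineOpen U := hU
  have hη := gen_mem (W := U) hx
  letI := QCoh.stalkModule M hη
  haveI := QCoh.isLocalizedModule_germLin hM hU' hη
  obtain ⟨⟨m, s⟩, hms⟩ := IsLocalizedModule.surj (hU'.primeIdealOf ⟨_, hη⟩).asIdeal.primeCompl (QCoh.germLin M hη) v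
  have hgs : algebraMap (X.presheaf.stalk x) X.functionField (X.presheaf.germ U x hx s.1) =
      X.presheaf.germ U (genericPoint X) hη s.1 :=
    TopCat.Presheaf.germ_stalkSpecializes_apply X.presheaf hx _ s.1
  refine ⟨X.presheaf.germ U x hx s.1, fun h0 => ?_, M.presheaf.germ U x hx m, ?_⟩
  · have hu := (X.mem_basicOpen _ _ hη).1 ((QCoh.mem_basicOpen_iff_notMem hU' hη s.1).2 s.2)
    rw [← hgs, h0, map_zero] at hu
    exact not_isUnit_zero hu
  · rw [toGen_germ, hgs]
    exact hms.symm

/-- Stalks have no torsion. -/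
def TF (M : X.Modules) : Prop := ∀ x : X, Function.Injective (toGen M x)

/-- The stalkwise meaning of torsion free gives injectivity. -/
theorem tf_of_smul_eq_zero {M : X.Modules} (hM : Coh.IsQCoh M)
    (h : ∀ (x : X) (a : X.presheaf.stalk x) (m : M.presheaf.stalk x), a • m = 0 → a = 0 ∨ m = 0) : TF M := by
  intro x
  refine (injective_iff_map_eq_zero _).2 fun w hw => ?_
  obtain ⟨_, ⟨U, hU, rfl⟩, hx, -⟩ :=
    X.isBasis_affineOpens.exists_subset_of_mem_open (Set.mem_univ x) isOpen_univ
  have hU' : IsAffineOpen U := hU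
  have hη := gen_mem (W := U) hx
  letI := QCoh.stalkModule M hx
  haveI := QCoh.isLocalizedModule_germLin hM hU' hx
  obtain ⟨⟨m, s⟩, hms⟩ := IsLocalizedModule.surj (hU'.primeIdealOf ⟨_, hx⟩).asIdeal.primeCompl (QCoh.germLin M hx) w
  have hs0 : M.presheaf.germ U (genericPoint X) hη m = 0 := by
    have := congrArg (toGen M x) hms
    rw [show (QCoh.germLin M hx) m = M.presheaf.germ U x hx m from rfl, toGen_germ,
      show toGen M x (s • w) = algebraMap (X.presheaf.stalk x) X.functionField (X.presheaf.germ U x hx s.1) • toGen M x w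
        from toGen_smul M x _ w, hw, smul_zero] at this
    exact this.symm
  obtain ⟨f, hf, hfm⟩ := (QCoh.germ_eq_zero_iff hM hU' hη m).1 hs0
  have hf0 : X.presheaf.germ U x hx f ≠ 0 := fun h0 => by
    have hu := (X.mem_basicOpen _ _ hη).1 hf
    rw [← TopCat.Presheaf.germ_stalkSpecializes_apply X.presheaf hx (gen_spec x) f, h0, map_zero] at hu
    exact not_isUnit_zero hu
  have hm0 : M.presheaf.germ U x hx m = 0 := by
    refine (h x (X.presheaf.germ U x hx f) _ ?_).resolve_left hf0
    rw [← QCoh.germ_smul', hfm, map_zero]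
  have hus := (X.mem_basicOpen _ _ hx).1 ((QCoh.mem_basicOpen_iff_notMem hU' hx s.1).2 s.2)
  refine hus.smul_left_cancel.1 ?_
  rw [smul_zero]
  exact hms.trans hm0

theorem TF.noZeroSMul {M : X.Modules} (hM : TF M) (x : X) (a : X.presheaf.stalk x) (m : M.presheaf.stalk x)
    (h : a • m = 0) : a = 0 ∨ m = 0 := by
  have h' := congrArg (toGen M x) h
  rw [toGen_smul, map_zero, smul_eq_zero] at h'
  rcases h' with h' | h'
  · exact Or.inl ((FaithfulSMul.algebraMap_injective (X.presheaf.stalk x) X.functionField) (h'.trans (map_zero _).symm))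
  · exact Or.inr (hM x (h'.trans (map_zero _).symm))

/-- Sections of a torsion free module are determined at the generic point. -/
theorem TF.section_ext {M : X.Modules} (hM : TF M) {W : X.Opens} {s t : Γ(M, W)}
    (h : ∀ hη : genericPoint X ∈ W, M.presheaf.germ W (genericPoint X) hη s = M.presheaf.germ W (genericPoint X) hη t) :
    s = t :=
  ZClosLib.section_ext M s t fun y hy => hM y (by rw [toGen_germ, toGen_germ]; exact h (gen_mem hy))

theorem TF.of_injective {M N : X.Modules} (hN : TF N) (ψ : M ⟶ N)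
    (h : ∀ x, Function.Injective (RefHull.stalkMapₗ ψ x)) : TF M := fun x a b e =>
  h x (hN x (by rw [← stalkMap_toGen, ← stalkMap_toGen, e]))

/-- Two morphisms into a torsion free module agreeing at the generic point are equal. -/
theorem TF.hom_ext {M N : X.Modules} (hN : TF N) {φ ψ : M ⟶ N}
    (h : RefHull.stalkMapₗ φ (genericPoint X) = RefHull.stalkMapₗ ψ (genericPoint X)) : φ = ψ := by
  refine Scheme.Modules.hom_ext _ _ fun W => ?_
  ext s
  refine hN.section_ext fun hη => ?_
  rw [← RefHull.stalkMapₗ_germ, ← RefHull.stalkMapₗ_germ, h]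

end Integral

end Groth.Agent.RefX2
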