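import Groth.Agent.RefX2.Rank
import Groth.Agent.CycLib.Div
import Groth.Agent.WDivX.OrdOpen

/-!
# Orders of rational sections at points of codimension one
-/

universe u

set_option backward.isDefEq.respectTransparency false
set_option backward.isDefEq.respectTransparency.types false
set_option linter.style.haveILetI false

open CategoryTheory AlgebraicGeometry TopologicalSpace Opposite

namespace Groth.Agent.RefX2

variable {X : Scheme.{u}} [IsIntegral X]

/-- The class of an element of the generic stalk. -/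
noncomputable def cls (M : X.Modules) (v : M.presheaf.stalk (genericPoint X)) :
    Cyc.secFibre M (genericPoint X) := Submodule.Quotient.mk v

theorem cls_injective (M : X.Modules) : Function.Injective (cls M) := by
  intro v w h
  have h1 := (Submodule.Quotient.eq _).1 h
  rw [show IsLocalRing.maximalIdeal (X.presheaf.stalk (genericPoint X)) = ⊥ from
    IsLocalRing.maximalIdeal_eq_bot (R := X.functionField), Submodule.bot_smul, Submodule.mem_bot, sub_eq_zero] at h1
  exact h1

theorem cls_surjective (M : X.Modules) : Function.Surjective (cls M) := Submodule.Quotient.mk_surjective _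

theorem cls_ne_zero {M : X.Modules} {v : M.presheaf.stalk (genericPoint X)} : cls M v ≠ 0 ↔ v ≠ 0 :=
  ⟨fun h h0 => h (by rw [h0]; rfl), fun h h0 => h (cls_injective M (h0.trans rfl))⟩

/-- The order at a point of an element of the generic stalk. -/
noncomputable def ordOf (M : X.Modules) (x : X) (v : M.presheaf.stalk (genericPoint X)) : ℤ :=
  Cyc.secOrdAt M (genericPoint X) x (gen_spec x) (cls M v)

theorem ordAt_residue [IsLocallyNoetherian X] {x : X} (hx : Order.coheight x = 1) (h : genericPoint X ⤳ x)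
    {f : X.functionField} (hf : f ≠ 0) :
    Cyc.ordAt x (genericPoint X) h (X.residue (genericPoint X) f) = Scheme.ord f x := by
  haveI : Ring.KrullDimLE 1 (X.presheaf.stalk x) := krullDimLE_of_coheight_le hx.le
  have hres : Function.Injective (X.residue (genericPoint X)).hom :=
    RingHom.injective (R := X.functionField) (X.residue (genericPoint X)).hom
  have hker : RingHom.ker (Cyc.specMap x (genericPoint X) h) = ⊥ := by
    refine eq_bot_iff.2 fun a ha => ?_
    refine (FaithfulSMul.algebraMap_injective (X.presheaf.stalk x) X.functionField) ?_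
    rw [map_zero]
    exact hres (ha.trans (map_zero _).symm)
  let e : X.presheaf.stalk x ≃+* Cyc.LocQuot x (genericPoint X) h :=
    (RingEquiv.quotientBot (X.presheaf.stalk x)).symm.trans (Ideal.quotEquivOfEq hker.symm)
  haveI : Ring.KrullDimLE 1 (Cyc.LocQuot x (genericPoint X) h) := by
    rw [Ring.krullDimLE_iff, ← ringKrullDim_eq_of_ringEquiv e]
    exact Ring.krullDimLE_iff.1 inferInstance
  have key : Ring.ordFrac (Cyc.LocQuot x (genericPoint X) h) (X.residue (genericPoint X) f) =
      Ring.ordFrac (X.presheaf.stalk x) f :=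
    WDivX.ordFrac_map e (X.residue (genericPoint X)).hom (fun a => rfl) f
  rw [Cyc.ordAt, CycAlg.ordFrac, dif_pos ⟨inferInstance, inferInstance, inferInstance, inferInstance⟩, key,
    Scheme.ord_eq_ordHom_of_coheight_eq_one hx]
  have h0 : Ring.ordFrac (X.presheaf.stalk x) f ≠ 0 :=
    (map_ne_zero (Ring.ordFrac (X.presheaf.stalk x) (K := X.functionField))).2 hf
  show _ = Multiplicative.toAdd ((Ring.ordFrac (X.presheaf.stalk x) f).unzeroD 1)
  obtain ⟨z, hz⟩ := WithZero.ne_zero_iff_exists.1 h0
  rw [← hz]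
  rfl

theorem ord_algebraMap_unit [IsLocallyNoetherian X] {x : X} {u : X.presheaf.stalk x} (hu : IsUnit u) :
    Scheme.ord (algebraMap (X.presheaf.stalk x) X.functionField u) x = 0 := by
  obtain ⟨u, rfl⟩ := hu
  have hne : ∀ a : (X.presheaf.stalk x)ˣ, algebraMap (X.presheaf.stalk x) X.functionField a ≠ 0 :=
    fun a => (a.isUnit.map _).ne_zero
  have h1 := CDiv6.reg_ord_nonneg (y := x) (hne u) ⟨_, rfl⟩
  have h2 := CDiv6.reg_ord_nonneg (y := x) (hne u⁻¹) ⟨_, rfl⟩
  have h3 := Scheme.ord_mul (x := x) (hne u) (hne u⁻¹)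
  have h4 := Scheme.ord_mul (x := x) (one_ne_zero (α := X.functionField)) one_ne_zero
  rw [one_mul] at h4
  rw [← map_mul, Units.mul_inv, map_one] at h3
  omega

variable [IsLocallyNoetherian X] {M N : X.Modules}

/-- The order, computed with any generator of the stalk. -/
theorem ordOf_eq (hM : TF M) {x : X} (hx : Order.coheight x = 1) {t : M.presheaf.stalk x}
    (ht : Submodule.span (X.presheaf.stalk x) {t} = ⊤) {v : M.presheaf.stalk (genericPoint X)} (hv : v ≠ 0)
    {φ : X.functionField} (hφ : φ • toGen M x t = v) : ordOf M x v = Scheme.ord φ x := by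
  classical
  have ht' : ∃ t : M.presheaf.stalk x, Submodule.span (X.presheaf.stalk x) {t} = ⊤ := ⟨t, ht⟩
  rw [ordOf, Cyc.secOrdAt, dif_pos ht']
  set t' := Classical.choose ht' with ht'def
  have hspec := Classical.choose_spec ht'
  obtain ⟨a, ha⟩ := Submodule.mem_span_singleton.1 (hspec.ge (Submodule.mem_top : t ∈ ⊤))
  obtain ⟨b, hb⟩ := Submodule.mem_span_singleton.1 (ht.ge (Submodule.mem_top : t' ∈ ⊤))
  have ht0 : t ≠ 0 := fun h0 => hv (by rw [← hφ, h0, map_zero, smul_zero])
  have hau : IsUnit a := by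
    refine IsUnit.of_mul_eq_one b (sub_eq_zero.1 ((hM.noZeroSMul x (a * b - 1) t ?_).resolve_right ht0))
    rw [sub_smul, mul_smul, hb, ha, one_smul, sub_self]
  have hv' : v = (φ * algebraMap (X.presheaf.stalk x) X.functionField a) • toGen M x t' := by
    rw [mul_smul, ← toGen_smul, ha, hφ]
  have hψ : ∃ ψ : X.presheaf.stalk (genericPoint X), cls M v =
      ψ • (Submodule.Quotient.mk ((M.presheaf.stalkSpecializes (gen_spec x)) t') : Cyc.secFibre M (genericPoint X)) :=
    ⟨_, congrArg (cls M) hv'⟩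
  rw [dif_pos hψ]
  set ψ := Classical.choose hψ with hψdef
  have h1 : ψ • toGen M x t' = v := (cls_injective M ((Classical.choose_spec hψ).trans rfl)).symm
  have ht'0 : toGen M x t' ≠ 0 := fun h0 => hv (by rw [hv', h0, smul_zero])
  have h2 : ψ = φ * algebraMap (X.presheaf.stalk x) X.functionField a :=
    smul_left_injective X.functionField ht'0 (h1.trans hv')
  have hφ0 : φ ≠ 0 := fun h0 => hv (by rw [← hφ, h0, zero_smul])
  have ha0 : algebraMap (X.presheaf.stalk x) X.functionField a ≠ 0 := (hau.map _).ne_zero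
  rw [ordAt_residue hx (gen_spec x) (h2 ▸ mul_ne_zero hφ0 ha0), h2, Scheme.ord_mul hφ0 ha0, ord_algebraMap_unit hau,
    add_zero]

variable (hX : Pi1.IsNormalScheme X)

include hX in
theorem exists_gen (hc : Coh.IsCoh M) (hM : TF M) (hr : Rk1 M) {x : X} (hx : Order.coheight x = 1) :
    ∃ t : M.presheaf.stalk x, Submodule.span (X.presheaf.stalk x) {t} = ⊤ ∧ toGen M x t ≠ 0 := by
  haveI := CDiv6.isDVR_of_coheight_one hX hx
  haveI := finite_stalk hc x
  haveI : Module.IsTorsionFree (X.presheaf.stalk x) (M.presheaf.stalk x) :=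
    Module.isTorsionFree_iff_smul_eq_zero.2 fun a m h => hM.noZeroSMul x a m h
  haveI : Module.Free (X.presheaf.stalk x) (M.presheaf.stalk x) := Module.free_of_finite_type_torsion_free'
  let b := Module.Free.chooseBasis (X.presheaf.stalk x) (M.presheaf.stalk x)
  obtain ⟨g, hg, hs⟩ := id hr
  have hne : Nonempty (Module.Free.ChooseBasisIndex (X.presheaf.stalk x) (M.presheaf.stalk x)) := by
    by_contra h
    rw [not_nonempty_iff] at h
    obtain ⟨a, ha, m, hm⟩ := exists_smul_mem_lat (QCoh.isCoh_iff.1 hc).1 x g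
    rw [Subsingleton.elim (h := b.repr.toEquiv.subsingleton) m 0, map_zero] at hm
    exact hg ((smul_eq_zero.1 hm.symm).resolve_left
      ((map_ne_zero_iff _ (FaithfulSMul.algebraMap_injective _ _)).2 ha))
  obtain ⟨i⟩ := hne
  have hall : ∀ j, j = i := by
    intro j
    by_contra hji
    obtain ⟨α, hα⟩ := hs (toGen M x (b i))
    obtain ⟨β, hβ⟩ := hs (toGen M x (b j))
    obtain ⟨p, q, hq, rfl⟩ := IsFractionRing.div_surjective (A := X.presheaf.stalk x) α
    obtain ⟨p', q', hq', rfl⟩ := IsFractionRing.div_surjective (A := X.presheaf.stalk x) β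
    have hqK : ∀ {r : X.presheaf.stalk x}, r ∈ nonZeroDivisors _ → algebraMap _ X.functionField r ≠ 0 :=
      fun hr => IsFractionRing.to_map_ne_zero_of_mem_nonZeroDivisors hr
    have h0 : (q * p') • b i + (-(p * q')) • b j = 0 := hM x (by
      rw [map_add, toGen_smul, toGen_smul, map_zero, ← hα, ← hβ, smul_smul, smul_smul, ← add_smul]
      refine (congrArg (· • g) ?_).trans (zero_smul _ g)
      rw [map_neg, map_mul, map_mul]
      field_simp [hqK hq, hqK hq']
      ring)
    have h1 := congrArg (fun m => b.repr m i) h0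
    simp only [map_add, map_smul, Finsupp.add_apply, Finsupp.smul_apply, Module.Basis.repr_self,
      Finsupp.single_eq_same, Finsupp.single_eq_of_ne (Ne.symm hji), smul_eq_mul, mul_one, mul_zero, add_zero,
      map_zero, Finsupp.zero_apply] at h1
    have hp' : p' = 0 := (mul_eq_zero.1 h1).resolve_left (nonZeroDivisors.ne_zero hq)
    rw [hp', map_zero, zero_div, zero_smul] at hβ
    exact b.ne_zero j (hM x (hβ.symm.trans (map_zero _).symm))
  refine ⟨b i, ?_, fun h0 => b.ne_zero i (hM x (h0.trans (map_zero _).symm))⟩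
  have hr' : Set.range b = {b i} := Set.ext fun m =>
    ⟨fun ⟨j, hj⟩ => by rw [← hj, hall j]; rfl, fun h => ⟨i, h.symm⟩⟩
  rw [← hr', b.span_eq]

include hX in
theorem exists_coord (hc : Coh.IsCoh M) (hM : TF M) (hr : Rk1 M) {x : X} (hx : Order.coheight x = 1)
    {v : M.presheaf.stalk (genericPoint X)} (hv : v ≠ 0) :
    ∃ (t : M.presheaf.stalk x) (φ : X.functionField), Submodule.span (X.presheaf.stalk x) {t} = ⊤ ∧ φ ≠ 0 ∧
      toGen M x t ≠ 0 ∧ φ • toGen M x t = v ∧ ordOf M x v = Scheme.ord φ x := by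
  obtain ⟨t, ht, ht0⟩ := exists_gen hX hc hM hr hx
  obtain ⟨φ, hφ⟩ := hr.exists_smul ht0 v
  exact ⟨t, φ, ht, fun h0 => hv (by rw [← hφ, h0, zero_smul]), ht0, hφ, ordOf_eq hM hx ht hv hφ⟩

include hX in
/-- The lattice at a codimension one point is cut out by the order. -/
theorem mem_lat_iff (hc : Coh.IsCoh M) (hM : TF M) (hr : Rk1 M) {x : X} (hx : Order.coheight x = 1)
    {v : M.presheaf.stalk (genericPoint X)} (hv : v ≠ 0) : v ∈ Lat M x ↔ 0 ≤ ordOf M x v := by
  obtain ⟨t, φ, ht, hφ0, ht0, hφ, hord⟩ := exists_coord hX hc hM hr hx hv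
  rw [hord]
  constructor
  · rintro ⟨m, hm⟩
    obtain ⟨a, rfl⟩ := Submodule.mem_span_singleton.1 (ht.ge (Submodule.mem_top : m ∈ ⊤))
    rw [toGen_smul, ← hφ] at hm
    exact CDiv6.reg_ord_nonneg hφ0 ⟨a, smul_left_injective X.functionField ht0 hm⟩
  · intro h
    obtain ⟨a, ha⟩ := CDiv6.reg_of_ord_nonneg hX hx hφ0 h
    exact ⟨a • t, by rw [toGen_smul, ha, hφ]⟩

include hX in
theorem ordOf_smul (hc : Coh.IsCoh M) (hM : TF M) (hr : Rk1 M) {x : X} (hx : Order.coheight x = 1)
    {v : M.presheaf.stalk (genericPoint X)} (hv : v ≠ 0) {c : X.functionField} (hc0 : c ≠ 0) :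
    ordOf M x (c • v) = Scheme.ord c x + ordOf M x v := by
  obtain ⟨t, φ, ht, hφ0, ht0, hφ, hord⟩ := exists_coord hX hc hM hr hx hv
  rw [hord, ← Scheme.ord_mul hc0 hφ0]
  exact ordOf_eq hM hx ht (smul_ne_zero hc0 hv) (by rw [mul_smul, hφ])

include hX in
/-- A morphism injective generically and surjective on the stalk preserves the order. -/
theorem ordOf_map (hc : Coh.IsCoh M) (hM : TF M) (hN : TF N) (hr : Rk1 M) {x : X} (hx : Order.coheight x = 1)
    (ψ : M ⟶ N) (hinj : Function.Injective (RefHull.stalkMapₗ ψ (genericPoint X)))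
    (hsurj : Function.Surjective (RefHull.stalkMapₗ ψ x)) {v : M.presheaf.stalk (genericPoint X)} (hv : v ≠ 0) :
    ordOf N x (RefHull.stalkMapₗ ψ (genericPoint X) v) = ordOf M x v := by
  obtain ⟨t, φ, ht, hφ0, ht0, hφ, hord⟩ := exists_coord hX hc hM hr hx hv
  rw [hord]
  refine ordOf_eq hN hx (t := RefHull.stalkMapₗ ψ x t) (eq_top_iff.2 fun n _ => ?_)
    (fun h0 => hv (hinj (h0.trans (map_zero _).symm))) ?_
  · obtain ⟨m, rfl⟩ := hsurj n
    obtain ⟨a, rfl⟩ := Submodule.mem_span_singleton.1 (ht.ge (Submodule.mem_top : m ∈ ⊤))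
    exact Submodule.mem_span_singleton.2 ⟨a, (map_smul (RefHull.stalkMapₗ ψ x) a t).symm⟩
  · rw [← stalkMap_toGen, ← hφ, map_smul]

end Groth.Agent.RefX2
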