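import Groth.Agent.RefX2.Class
import Groth.Agent.RefX2.IsoLocus
import Groth.Prelude.Def_RefPow

/-!
# Powers of a section of a rank one reflexive module
-/

universe u

set_option backward.isDefEq.respectTransparency false
set_option backward.isDefEq.respectTransparency.types false
set_option linter.style.haveILetI false

open CategoryTheory AlgebraicGeometry TopologicalSpace Opposite

namespace Groth.Agent.RefX2

variable {X : Scheme.{u}} [IsIntegral X] [IsLocallyNoetherian X] {F : X.Modules}

theorem isRef1_refPow (hF : RefHull.IsRef1 F) : ∀ n, RefHull.IsRef1 (RefPow.refPow F n)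
  | 0 => isRef1_unit
  | 1 => hF
  | n + 2 => isRef1_refTensor (isRef1_refPow hF (n + 1)) hF

variable (s : Coh.structureModule X ⟶ F)

/-- The germ at the generic point of a power of the section. -/
noncomputable def powGen (n : ℕ) : (RefPow.refPow F n).presheaf.stalk (genericPoint X) :=
  RefPow.sPowGerm s n (genericPoint X)

omit [IsLocallyNoetherian X] in
theorem sPowGerm_succ_eq (n : ℕ) (x : X) :
    RefPow.sPowGerm s (n + 1) x = RefHull.stalkMapₗ (RefPow.mulBy s n) x (RefPow.sPowGerm s n x) := by
  unfold RefPow.sPowGerm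
  rw [RefHull.stalkMapₗ_germ]
  rfl

omit [IsLocallyNoetherian X] in
theorem mulBy_germ_succ (n : ℕ) {x : X} {U : X.Opens} (hx : x ∈ U) (t : Γ(RefPow.refPow F (n + 1), U)) :
    RefHull.stalkMapₗ (RefPow.mulBy s (n + 1)) x ((RefPow.refPow F (n + 1)).presheaf.germ U x hx t) =
      RefHull.stalkMapₗ (RefHull.bidualMap (CohB1.tensorMod (RefPow.refPow F (n + 1)) F)) x
        (stalkTmul (RefPow.refPow F (n + 1)) F x
          ((RefPow.refPow F (n + 1)).presheaf.germ U x hx t ⊗ₜ F.presheaf.germ ⊤ x trivial (SecTwist.val s ⊤))) := by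
  have hv : F.presheaf.germ ⊤ x trivial (SecTwist.val s ⊤) = F.presheaf.germ U x hx (SecTwist.val s U) := by
    rw [← SecTwist.map_val s (homOfLE (le_top : U ≤ ⊤))]
    exact (TopCat.Presheaf.germ_res_apply F.presheaf (homOfLE le_top) x hx _).symm
  rw [RefHull.stalkMapₗ_germ, RefPow.mulBy_succ_app, hv]
  erw [stalkTmul_germ, RefHull.stalkMapₗ_germ]
  rfl

theorem powGen_add_two (n : ℕ) :
    powGen s (n + 2) = refTmul (RefPow.refPow F (n + 1)) F (powGen s (n + 1)) (powGen s 1) := by
  unfold powGen
  rw [sPowGerm_succ_eq s (n + 1)]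
  refine (mulBy_germ_succ s n (U := ⊤) trivial _).trans ?_
  unfold refTmul
  rw [RefPow.sPowGerm, RefPow.sPowGerm, RefPow.sPow_one]
  rfl

theorem powGen_zero :
    powGen s 0 = (show (RefPow.refPow F 0).presheaf.stalk (genericPoint X) from
      RefX.unitStalk (genericPoint X) (1 : X.functionField)) := by
  show _ = (1 : X.presheaf.stalk (genericPoint X)) •
    (Coh.structureModule X).presheaf.germ ⊤ (genericPoint X) trivial (show Γ(Coh.structureModule X, ⊤) from (1 : Γ(X, ⊤)))
  rw [one_smul]
  rfl

variable (hF : RefHull.IsRef1 F) (hs : powGen s 1 ≠ 0)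
include hF hs

theorem powGen_ne_zero : ∀ n, powGen s n ≠ 0
  | 0 => by
    rw [powGen_zero]
    exact fun h => one_ne_zero (α := X.functionField) ((RefX.unitStalk _).injective (h.trans (map_zero _).symm))
  | 1 => hs
  | n + 2 => by
    rw [powGen_add_two]
    exact refTmul_ne_zero (isRef1_refPow hF (n + 1)).1 hF.1 (rk1_of_genInvertible (isRef1_refPow hF (n + 1)).2.2)
      (rk1_of_genInvertible hF.2.2) (powGen_ne_zero (n + 1)) hs

theorem ordOf_powGen (hX : Pi1.IsNormalScheme X) {x : X} (hx : Order.coheight x = 1) :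
    ∀ n, ordOf (RefPow.refPow F n) x (powGen s n) = n * ordOf F x (powGen s 1)
  | 0 => by
    rw [powGen_zero]
    show ordOf (Coh.structureModule X) x _ = _
    rw [Nat.cast_zero, zero_mul]
    exact ordOf_unit hX hx
  | 1 => by simp
  | n + 2 => by
    have ih := ordOf_powGen hX hx (n + 1)
    rw [powGen_add_two]
    refine (ordOf_refTmul hX (isRef1_refPow hF (n + 1)) hF (powGen_ne_zero s hF hs (n + 1)) hs hx).trans ?_
    rw [ih]
    push_cast
    ring

end Groth.Agent.RefX2
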