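import Groth.Agent.RefX2.Div

/-!
# The divisor of a rational section
-/

universe u

set_option backward.isDefEq.respectTransparency false
set_option backward.isDefEq.respectTransparency.types false
set_option linter.style.haveILetI false

open CategoryTheory AlgebraicGeometry TopologicalSpace Opposite

namespace Groth.Agent.RefX2

variable {X : Scheme.{u}} [IsIntegral X] [IsLocallyNoetherian X]

theorem exists_secDivisor (hX : Pi1.IsNormalScheme X) {F : X.Modules} (hc : Coh.IsCoh F) (hF : TF F) (hr : Rk1 F)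
    {s : F.presheaf.stalk (genericPoint X)} (hs : s ≠ 0) :
    ∃ D : AlgebraicCycle X ℤ, (∀ x : X, Order.coheight x ≠ 1 → D x = 0) ∧
      ∀ x : X, Order.coheight x = 1 → D x = ordOf F x s := by
  classical
  obtain ⟨U, hη, e, he⟩ := exists_frame_generic hc hF hr
  have hg : F.presheaf.germ U (genericPoint X) hη e ≠ 0 := fun h0 => one_ne_zero (α := X.functionField)
    ((he.germ_bijective hη).1 (show (1 : X.functionField) • _ = (0 : X.functionField) • _ by
      rw [one_smul, zero_smul]; exact h0))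
  obtain ⟨φ, hφ⟩ := hr.exists_smul hg s
  have key : ∀ z ∈ U, Order.coheight z = 1 → ordOf F z s = Scheme.ord φ z := fun z hz hz1 => by
    refine ordOf_eq hF hz1 (t := F.presheaf.germ U z hz e) (eq_top_iff.2 fun m _ => ?_) hs ?_
    · exact Submodule.mem_span_singleton.2 ((he.germ_bijective hz).2 m)
    · rw [toGen_germ]; exact hφ
  refine ⟨{ toFun := fun z => if Order.coheight z = 1 then ordOf F z s else 0
            supportWithinDomain' := fun _ _ => trivial
            supportLocallyFiniteWithinDomain' := fun x _ => ?_ },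
    fun x hx => if_neg hx, fun x hx => if_pos hx⟩
  obtain ⟨U₁, hU₁, hf₁⟩ := ord_finite_nhd φ x
  obtain ⟨U₂, hU₂, hf₂⟩ := finite_codim_one_off hX hη x
  refine ⟨((U₁ ⊓ U₂ : X.Opens) : Set X), (U₁ ⊓ U₂).isOpen.mem_nhds ⟨hU₁, hU₂⟩, (hf₁.union hf₂).subset ?_⟩
  rintro z ⟨⟨hz₁, hz₂⟩, hzs⟩
  have h1 : Order.coheight z = 1 := by
    by_contra h1
    exact hzs (if_neg h1)
  by_cases hzU : z ∈ U
  · refine Or.inl ⟨hz₁, fun h0 => hzs ?_⟩
    show (if Order.coheight z = 1 then ordOf F z s else 0) = 0
    rw [if_pos h1, key z hzU h1, h0]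
  · exact Or.inr ⟨hz₂, h1, hzU⟩

end Groth.Agent.RefX2
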